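import Cfsg.Agent.TwoS4.Main
import Cfsg.Agent.FixFour.SetAct
import Cfsg.Agent.Fusion.Residual

/-!
In the local characteristic 2 case the Sylow 2-subgroups of the subgroup generated by the elements
of odd order are dihedral or semidihedral.
-/

set_option autoImplicit false
set_option linter.unusedSectionVars false

namespace Cfsg.Agent.ZNGroup

open Subgroup

variable {G : Type*} [Group G] [Finite G]

/-- A Sylow subgroup meets a normal subgroup in a Sylow subgroup. -/
theorem sylow_inter (N : Subgroup G) [N.Normal] (S : Sylow 2 G) :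
    ∃ Q : Sylow 2 N, (Q : Subgroup N).map N.subtype = (S : Subgroup G) ⊓ N := by
  haveI : Fact (Nat.Prime 2) := ⟨Nat.prime_two⟩
  obtain ⟨Q, hQ⟩ := (S.2.comap_subtype (K := N)).exists_le_sylow
  refine ⟨Q, ?_⟩
  have h1 : (S : Subgroup G) ⊓ N ≤ (Q : Subgroup N).map N.subtype := fun x hx =>
    ⟨⟨x, hx.2⟩, hQ hx.1, rfl⟩
  obtain ⟨P, hP⟩ := (Q.2.map N.subtype).exists_le_sylow
  obtain ⟨g, hg⟩ := MulAction.exists_smul_eq G P S
  refine (Subgroup.eq_of_le_of_card_ge h1 ?_).symm
  have h2 : ((Q : Subgroup N).map N.subtype).map (MulAut.conj g).toMonoidHom ≤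
      (S : Subgroup G) ⊓ N := by
    rintro _ ⟨x, hx, rfl⟩
    refine ⟨?_, (inferInstance : N.Normal).conj_mem x (map_subtype_le _ hx) g⟩
    rw [← hg, Sylow.coe_subgroup_smul]
    exact ⟨x, hP hx, rfl⟩
  refine le_trans ?_ (Nat.le_of_dvd Nat.card_pos (card_dvd_of_le h2))
  exact le_of_eq (card_map_of_injective (MulAut.conj g).injective).symm

/-- Isomorphism invariance of the semidihedral predicate. -/
theorem isQuasiDihedral_congr {A B : Type*} [Group A] [Group B] (e : A ≃* B)
    (h : Cfsg.IsQuasiDihedral A) : Cfsg.IsQuasiDihedral B := by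
  obtain ⟨n, hn, hc, x, y, hx, hy, hxy⟩ := h
  exact ⟨n, hn, (Nat.card_congr e.toEquiv).symm.trans hc, e x, e y, by rw [MulEquiv.orderOf_eq, hx],
    by rw [MulEquiv.orderOf_eq, hy], by rw [← map_inv, ← map_mul, ← map_mul, hxy, map_pow]⟩

/-- The characteristic 2 case. -/
theorem pair_sylow (hL : Cfsg.IsCharacteristicTwoType G) (hO : Cfsg.pCore 2 G = ⊥)
    (hN : ∀ N : Subgroup G, Cfsg.IsTwoLocal N → Group.IsSolvable N)
    (hZ : ∀ S : Sylow 2 G,
      centralizer {z : G | z ∈ (S : Subgroup G) ∧ z ^ 2 = 1 ∧ ∀ s ∈ (S : Subgroup G), s * z = z * s} ≤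
        normalizer ((S : Subgroup G) : Set G)) (S : Sylow 2 G) :
    (∃ K : Subgroup G, Cfsg.IsStronglyEmbedded K) ∨
      (∃ n : ℕ, 2 ≤ n ∧ Nonempty (↥((S : Subgroup G) ⊓ Cfsg.pResidual 2 G) ≃* DihedralGroup n)) ∨
        Cfsg.IsQuasiDihedral ↥((S : Subgroup G) ⊓ Cfsg.pResidual 2 G) := by
  haveI : Fact (Nat.Prime 2) := ⟨Nat.prime_two⟩
  have hH : Cfsg.pResidual 2 G = closure {g : G | Odd (orderOf g)} := by
    rw [Cfsg.pResidual]
    congr 1
    ext g
    exact Nat.coprime_two_right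
  set H := Cfsg.pResidual 2 G with hHdef
  obtain hK | ⟨M₁, M₂, -, hM₁, -, ⟨i₁⟩, -, -⟩ := TwoS4.main hL hO hN hZ H hH
  · exact Or.inl hK
  right
  have hA : Nat.card (Multiplicative (ZMod 1)) = 1 := by simp
  let sh : TwoS4.Shape (Multiplicative (ZMod 1)) M₁ :=
    ⟨hM₁, i₁.trans MulEquiv.prodUnique.symm, hA.le.trans (by norm_num)⟩
  have hVE : sh.V = sh.E := Subgroup.eq_of_le_of_card_ge sh.V_le_E (by rw [sh.card_V, sh.card_E, hA])
  have hself : ∀ x : H, (∀ v ∈ sh.V, x * v = v * x) → x ∈ sh.V := fun x hx => by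
    rw [hVE]
    refine sh.V_self_cent ?_ hx
    rw [← sh.normalizer_V]
    exact centralizer_le_normalizer _ (mem_centralizer_iff.2 fun v hv => (hx v hv).symm)
  obtain ⟨Q, hQ⟩ := sylow_inter H S
  obtain ⟨P, hP⟩ := (sh.isPGroup_E.to_le sh.V_le_E).exists_le_sylow
  have heQ : Nonempty (↥(P : Subgroup H) ≃* ↥((S : Subgroup G) ⊓ H)) := by
    refine ⟨(P.equiv Q).trans (((Q : Subgroup H).equivMapOfInjective H.subtype H.subtype_injective).trans
      (MulEquiv.subgroupCongr hQ))⟩
  obtain ⟨e⟩ := heQ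
  -- an involution of the centre of `P`
  have hP1 : Nontrivial (P : Subgroup H) := by
    rw [← Finite.one_lt_card_iff_nontrivial]
    have := Nat.le_of_dvd Nat.card_pos (card_dvd_of_le hP)
    rw [sh.card_V] at this
    omega
  haveI := P.2.center_nontrivial
  obtain ⟨k, hk0, hk⟩ := (P.2.to_subgroup (center (P : Subgroup H))).nontrivial_iff_card.1 inferInstance
  obtain ⟨w, hw⟩ := exists_prime_orderOf_dvd_card' (G := center (P : Subgroup H)) 2
    (hk ▸ dvd_pow_self 2 hk0.ne')
  rw [← Subgroup.orderOf_coe, ← Subgroup.orderOf_coe] at hw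
  have hwc : ∀ v ∈ (P : Subgroup H), v * ((w : (P : Subgroup H)) : H) = ((w : (P : Subgroup H)) : H) * v :=
    fun v hv => congrArg Subtype.val (mem_center_iff.1 w.2 ⟨v, hv⟩)
  set w' : H := ((w : (P : Subgroup H)) : H) with hw'
  have hwV : w' ∈ sh.V := hself w' fun v hv => (hwc v (hP hv)).symm
  obtain ⟨y, hy, hy1, hyw⟩ : ∃ y ∈ sh.V, y ≠ 1 ∧ y ≠ w' := by
    by_contra hc
    push Not at hc
    have hsub : (sh.V : Set H) ⊆ {1, w'} := fun v hv => by
      by_cases h1 : v = 1
      · exact Or.inl h1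
      · exact Or.inr (hc v hv h1)
    have h2 := Set.ncard_le_ncard hsub (Set.toFinite _)
    have h3 : ({1, w'} : Set H).ncard ≤ 2 := by
      refine le_trans (Set.ncard_insert_le _ _) ?_
      rw [Set.ncard_singleton]
    rw [← Nat.card_coe_set_eq] at h2
    change Nat.card sh.V ≤ _ at h2
    rw [sh.card_V] at h2
    omega
  have hy2 : orderOf y = 2 := orderOf_eq_prime (by rw [pow_two]; exact sh.E_sq (sh.V_le_E hy)) hy1
  have hsmall : Nat.card ↥((P : Subgroup H) ⊓ centralizer ({y} : Set H)) ≤ 4 := by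
    rw [← sh.card_V]
    refine Nat.le_of_dvd Nat.card_pos (card_dvd_of_le fun x hx => hself x fun v hv => ?_)
    have hww : w' * w' = 1 := sh.E_sq (sh.V_le_E hwV)
    have hw1 : w' ≠ 1 := fun e => by rw [e, orderOf_one] at hw; omega
    have hxy := mem_centralizer_singleton_iff.1 (mem_inf.1 hx).2
    have hxw := hwc x (mem_inf.1 hx).1
    -- `V` is generated by `y` and `w'`
    have hcases : v = 1 ∨ v = w' ∨ v = y ∨ v = w' * y := by
      by_contra hcon
      push Not at hcon
      obtain ⟨h1, h2, h3, h4⟩ := hcon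
      have hwy1 : w' * y ≠ 1 := fun e => hyw <| by
        rw [← inv_eq_of_mul_eq_one_right e, inv_eq_of_mul_eq_one_right hww]
      have hsub : ({v, 1, w', y, w' * y} : Set H) ⊆ sh.V := by
        rintro x (rfl | rfl | rfl | rfl | rfl)
        exacts [hv, one_mem _, hwV, hy, mul_mem hwV hy]
      have h5 : ({v, 1, w', y, w' * y} : Set H).ncard = 5 := by
        rw [Set.ncard_insert_of_notMem, Set.ncard_insert_of_notMem, Set.ncard_insert_of_notMem,
          Set.ncard_pair (fun e => hw1 (right_eq_mul.1 e))]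
        · simp only [Set.mem_insert_iff, Set.mem_singleton_iff, not_or]
          exact ⟨hyw.symm, fun e => hy1 (left_eq_mul.1 e)⟩
        · simp only [Set.mem_insert_iff, Set.mem_singleton_iff, not_or]
          exact ⟨hw1.symm, hy1.symm, hwy1.symm⟩
        · simp only [Set.mem_insert_iff, Set.mem_singleton_iff, not_or]
          exact ⟨h1, h2, h3, h4⟩
      have := Set.ncard_le_ncard hsub (Set.toFinite _)
      rw [h5, ← Nat.card_coe_set_eq] at this
      change 5 ≤ Nat.card sh.V at this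
      rw [sh.card_V] at this
      omega
    rcases hcases with rfl | rfl | rfl | rfl
    · simp
    · exact hxw
    · exact hxy
    · rw [← mul_assoc, hxw, mul_assoc, hxy, mul_assoc]
  rcases FixFour.dihedral_or_semi (P : Subgroup H) P.2 (hP hy) (w : (P : Subgroup H)).2 hy2 hw hyw
      (hwc y (hP hy)) hsmall with ⟨n, ⟨i⟩⟩ | hq
  · refine Or.inl ⟨n, ?_, ⟨e.symm.trans i⟩⟩
    have h4 := Nat.le_of_dvd Nat.card_pos (card_dvd_of_le hP)
    rw [sh.card_V, Nat.card_congr i.toEquiv, DihedralGroup.nat_card] at h4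
    omega
  · exact Or.inr (isQuasiDihedral_congr e hq)

end Cfsg.Agent.ZNGroup
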