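import Cfsg.Agent.ZNGroup.Local
import Cfsg.Agent.ZNGroup.PairSylow

/-!
Finite groups with solvable involution centralisers in which the centraliser of the central
involutions of a Sylow 2-subgroup normalises it.
-/

set_option autoImplicit false
set_option linter.unusedSectionVars false

namespace Cfsg.Agent.ZNGroup

open Subgroup Cfsg Dichotomy

universe u

variable {G : Type u} [Group G] [Finite G]

/-- The central involutions of a 2-group. -/
abbrev Z₁ (S : Subgroup G) : Subgroup G := Cfsg.omegaOne 2 (S ⊓ centralizer (S : Set G))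

theorem mem_Z₁ {S : Subgroup G} {x : G} :
    x ∈ Z₁ S ↔ x ∈ S ∧ x * x = 1 ∧ ∀ s ∈ S, s * x = x * s := by
  let K : Subgroup G :=
    { carrier := {x | x ∈ S ∧ x * x = 1 ∧ ∀ s ∈ S, s * x = x * s}
      one_mem' := ⟨one_mem _, one_mul 1, fun s _ => by rw [one_mul, mul_one]⟩
      mul_mem' := by
        rintro a b ⟨ha, ha2, hac⟩ ⟨hb, hb2, hbc⟩
        refine ⟨mul_mem ha hb, ?_, fun w hw => by
          rw [← mul_assoc, hac w hw, mul_assoc, hbc w hw, mul_assoc]⟩
        rw [mul_assoc, ← mul_assoc b, hac b hb, mul_assoc a b b, hb2, mul_one, ha2]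
      inv_mem' := by
        rintro a ⟨ha, ha2, hac⟩
        rw [inv_eq_of_mul_eq_one_right ha2]
        exact ⟨ha, ha2, hac⟩ }
  constructor
  · intro hx
    refine (show Z₁ S ≤ K from ?_) hx
    rw [Z₁, Cfsg.omegaOne, closure_le]
    rintro y ⟨hy, hy2⟩
    exact ⟨(mem_inf.1 hy).1, by rwa [← pow_two], fun s hs => mem_centralizer_iff.1 (mem_inf.1 hy).2 s hs⟩
  · rintro ⟨h1, h2, h3⟩
    exact subset_closure ⟨mem_inf.2 ⟨h1, mem_centralizer_iff.2 fun s hs => h3 s hs⟩, by rwa [pow_two]⟩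

/-- A strongly embedded subgroup contains a Sylow 2-subgroup of the group. -/
theorem exists_sylow_le_of_se {M : Subgroup G} (hM : Cfsg.IsStronglyEmbedded M) :
    ∃ P : Sylow 2 G, (P : Subgroup G) ≤ M := by
  haveI : Fact (Nat.Prime 2) := ⟨Nat.prime_two⟩
  obtain ⟨R⟩ : Nonempty (Sylow 2 M) := inferInstance
  set R' := (R : Subgroup M).map M.subtype with hR'
  obtain ⟨P, hP⟩ := (R.2.map M.subtype).exists_le_sylow
  refine ⟨P, ?_⟩
  by_contra hno
  have hlt : R'.subgroupOf (P : Subgroup G) < ⊤ := lt_top_iff_ne_top.2 fun h =>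
    hno ((subgroupOf_eq_top.1 h).trans (map_subtype_le _))
  haveI : Group.IsNilpotent (P : Subgroup G) := P.2.isNilpotent
  obtain ⟨⟨x, hxP⟩, hxn, hxR⟩ :=
    SetLike.exists_of_lt (normalizerCondition_of_isNilpotent _ hlt)
  rw [mem_subgroupOf] at hxR
  have hne : (R : Subgroup M) ≠ ⊥ :=
    R.ne_bot_of_dvd_card (even_iff_two_dvd.1 hM.2.1)
  obtain ⟨t, ht, ht2⟩ := Invol.exists_involution_of_ne_bot R.2 hne
  have ht' : (t : G) ∈ R' := ⟨t, ht, rfl⟩
  have hxt : x⁻¹ * t * x ∈ R' := by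
    have := (mem_normalizer_iff''.1 hxn ⟨t, hP ht'⟩).1 (by simpa [mem_subgroupOf] using ht')
    simpa [mem_subgroupOf] using this
  have hxM : x ∈ M := Invol.se_mem hM (by rwa [Subgroup.orderOf_coe]) t.2 (map_subtype_le _ hxt)
  set K := (P : Subgroup G).subgroupOf M with hK
  have hRK : (R : Subgroup M) ≤ K := fun r hr => hP ⟨r, hr, rfl⟩
  have hKR := R.3 (P.2.comap_subtype (K := M)) hRK
  have hxR' : (⟨x, hxM⟩ : M) ∈ (R : Subgroup M) := by
    rw [← hKR]; exact hxP
  exact hxR ⟨_, hxR', rfl⟩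

variable (hcore : Cfsg.pPrimeCore 2 G = ⊥) (hO : Cfsg.pCore 2 G = ⊥) (heven : Even (Nat.card G))

include hcore hO heven in
theorem inter_ne_bot (S : Sylow 2 G) : (S : Subgroup G) ⊓ Cfsg.pResidual 2 G ≠ ⊥ := by
  haveI : Fact (Nat.Prime 2) := ⟨Nat.prime_two⟩
  intro hbot
  obtain ⟨Q, hQ⟩ := sylow_inter (Cfsg.pResidual 2 G) S
  rw [hbot, map_eq_bot_iff_of_injective _ (Subgroup.subtype_injective _)] at hQ
  have hodd : ¬ 2 ∣ Nat.card ↥(Cfsg.pResidual 2 G) := fun h =>
    Q.ne_bot_of_dvd_card h hQ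
  have h1 : Cfsg.pResidual 2 G = ⊥ := le_bot_iff.1
    ((Core.le_pPrimeCore (Nat.coprime_two_right.2 (Nat.odd_iff.2 (Nat.two_dvd_ne_zero.1 hodd)))).trans
      hcore.le)
  have hG : IsPGroup 2 G := by
    obtain ⟨k, hk⟩ := IsPGroup.iff_card.1 (Fusion.isPGroup_quotient_pResidual (p := 2) (G := G))
    refine IsPGroup.of_card (n := k) ?_
    rw [← Subgroup.index_eq_card, h1, index_bot] at hk
    exact hk
  have h2 := Core.pCore_eq_top hG
  rw [hO] at h2
  have h3 : Nat.card G = 1 := by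
    rw [← card_top (G := G), ← h2, card_bot]
  rw [h3] at heven
  exact Nat.not_even_one heven

include hcore hO heven in
theorem exists_central_invol (S : Sylow 2 G) :
    ∃ z ∈ Z₁ (S : Subgroup G) ⊓ Cfsg.pResidual 2 G, orderOf z = 2 := by
  haveI : Fact (Nat.Prime 2) := ⟨Nat.prime_two⟩
  set R := (S : Subgroup G) ⊓ Cfsg.pResidual 2 G with hR
  have hRn : (R.subgroupOf (S : Subgroup G)).Normal := by
    rw [hR, inf_subgroupOf_left]
    infer_instance
  have hne : R.subgroupOf (S : Subgroup G) ≠ ⊥ := fun h => inter_ne_bot hcore hO heven S (by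
    have := subgroupOf_eq_bot.1 h
    rwa [disjoint_iff, inf_eq_left.2 inf_le_left] at this)
  have hne' := Fusion.pGroup_inf_center_ne_bot S.2 _ hne
  obtain ⟨w, hw, hw2⟩ := Invol.exists_involution_of_ne_bot (S.2.to_subgroup _) hne'
  obtain ⟨hwR, hwc⟩ := mem_inf.1 hw
  have hwo : orderOf (w : G) = 2 := by rwa [Subgroup.orderOf_coe]
  refine ⟨w, mem_inf.2 ⟨mem_Z₁.2 ⟨w.2, mul_self_of_orderOf_two hwo, fun s hs => ?_⟩,
    (mem_inf.1 (mem_subgroupOf.1 hwR)).2⟩, hwo⟩
  exact congrArg Subtype.val (mem_center_iff.1 hwc ⟨s, hs⟩)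

/-- A strongly embedded subgroup of `G` yields one of `O^2(G)`. -/
theorem se_residual (hcore : Cfsg.pPrimeCore 2 G = ⊥) (hO : Cfsg.pCore 2 G = ⊥)
    (heven : Even (Nat.card G)) {M : Subgroup G} (hM : Cfsg.IsStronglyEmbedded M) :
    ∃ K : Subgroup ↥(Cfsg.pResidual 2 G), Cfsg.IsStronglyEmbedded K := by
  haveI : Fact (Nat.Prime 2) := ⟨Nat.prime_two⟩
  obtain ⟨P, hP⟩ := exists_sylow_le_of_se hM
  obtain ⟨z, hz, hz2⟩ := exists_central_invol hcore hO heven P
  obtain ⟨hzZ, hzH⟩ := mem_inf.1 hz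
  have hzM : z ∈ M := hP (mem_Z₁.1 hzZ).1
  refine ⟨M.subgroupOf (Cfsg.pResidual 2 G), (Invol.se_iff _).2 ⟨fun htop => ?_, ?_, fun t g ht htK htg => ?_⟩⟩
  · refine hM.1 (top_le_iff.1 ?_)
    rw [← Fusion.sylow_sup_pResidual P]
    exact sup_le hP (subgroupOf_eq_top.1 htop)
  · have h1 := orderOf_dvd_natCard (⟨⟨z, hzH⟩, hzM⟩ : M.subgroupOf (Cfsg.pResidual 2 G))
    rw [← Subgroup.orderOf_coe, ← Subgroup.orderOf_coe, hz2] at h1
    exact even_iff_two_dvd.2 h1
  · exact Invol.se_mem hM (t := (t : G)) (g := (g : G)) (by rwa [Subgroup.orderOf_coe]) htK htg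

variable (hsol : ∀ t : G, orderOf t = 2 → Group.IsSolvable ↥(centralizer ({t} : Set G)))
  (hZ : ∀ S : Sylow 2 G, centralizer (Z₁ (S : Subgroup G) : Set G) ≤ normalizer ((S : Subgroup G) : Set G))

include hcore hO heven hsol hZ in
/-- The three outcomes: a strongly embedded subgroup, local characteristic 2 of `O^2(G)` with a
single central involution, or several central involutions. -/
theorem dichotomy (S : Sylow 2 G) :
    (∃ K : Subgroup ↥(Cfsg.pResidual 2 G), Cfsg.IsStronglyEmbedded K) ∨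
      (Z₁ (S : Subgroup G) ≤ Cfsg.pResidual 2 G ∧
        Cfsg.IsCharacteristicTwoType ↥(Cfsg.pResidual 2 G) ∧
        ∀ Q : Sylow 2 ↥(Cfsg.pResidual 2 G), ∃ z : ↥(Cfsg.pResidual 2 G),
          (z ∈ (Q : Subgroup ↥(Cfsg.pResidual 2 G)) ∧ z ^ 2 = 1 ∧
            ∀ s ∈ (Q : Subgroup ↥(Cfsg.pResidual 2 G)), s * z = z * s) ∧
          centralizer ({z} : Set ↥(Cfsg.pResidual 2 G)) ≤
            normalizer ((Q : Subgroup ↥(Cfsg.pResidual 2 G)) : Set ↥(Cfsg.pResidual 2 G))) ∨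
      (Nat.card ↥(Z₁ (S : Subgroup G)) = 4 ∧
        Cfsg.omegaOne 2 ((S : Subgroup G) ⊓ Cfsg.pResidual 2 G) = Z₁ (S : Subgroup G)) ∨
      ∀ t : G, orderOf t = 2 → Cfsg.oddCore ↥(centralizer ({t} : Set G)) = ⊥ := by
  haveI : Fact (Nat.Prime 2) := ⟨Nat.prime_two⟩
  have hG : ZC G := ⟨hsol, hcore, hO⟩
  set H := Cfsg.pResidual 2 G with hH
  set Z := Z₁ (S : Subgroup G) with hZdef
  obtain ⟨z, hz, hz2⟩ := exists_central_invol hcore hO heven S
  obtain ⟨hzZ, hzH⟩ := mem_inf.1 hz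
  obtain ⟨hzS, hzz, hzc⟩ := mem_Z₁.1 hzZ
  have hz1 : z ≠ 1 := fun e => by rw [e, orderOf_one] at hz2; omega
  have hZS : Z ≤ (S : Subgroup G) := fun x hx => (mem_Z₁.1 hx).1
  have hZsq : ∀ a ∈ Z, a * a = 1 := fun a ha => (mem_Z₁.1 ha).2.1
  have hHn : H.Normal := Fusion.pResidualNormal
  obtain ⟨Q, hQ⟩ := sylow_inter H S
  have hQS : ∀ x : H, x ∈ (Q : Subgroup H) ↔ (x : G) ∈ (S : Subgroup G) := fun x => by
    constructor
    · intro hx
      have h1 : (x : G) ∈ (Q : Subgroup H).map H.subtype := ⟨x, hx, rfl⟩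
      rw [hQ] at h1
      exact (mem_inf.1 h1).1
    · intro hx
      obtain ⟨y, hy, hyx⟩ : (x : G) ∈ (Q : Subgroup H).map H.subtype := by
        rw [hQ]; exact mem_inf.2 ⟨hx, x.2⟩
      rwa [← Subtype.ext hyx]
  set zH : H := ⟨z, hzH⟩ with hzHdef
  by_cases h2 : Nat.card Z = 2
  · -- one central involution
    have hZH : Z ≤ H := fun x hx => by
      rcases eq_or_ne x 1 with rfl | hx1
      · exact one_mem _
      obtain ⟨y, -, hy⟩ := (Nat.card_eq_two_iff' (1 : Z)).1 h2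
      have e := (hy ⟨x, hx⟩ fun e => hx1 (congrArg Subtype.val e)).trans
        (hy ⟨z, hzZ⟩ fun e => hz1 (congrArg Subtype.val e)).symm
      rw [show x = z from congrArg Subtype.val e]
      exact hzH
    have hcent : centralizer ({z} : Set G) ≤ normalizer ((S : Subgroup G) : Set G) := by
      refine le_trans (fun c hc => mem_centralizer_iff.2 fun x hx => ?_) (hZ S)
      rcases eq_or_ne x 1 with rfl | hx1
      · simp
      obtain ⟨y, -, hy⟩ := (Nat.card_eq_two_iff' (1 : Z)).1 h2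
      have e := (hy ⟨x, hx⟩ fun e => hx1 (congrArg Subtype.val e)).trans
        (hy ⟨z, hzZ⟩ fun e => hz1 (congrArg Subtype.val e)).symm
      rw [show x = z from congrArg Subtype.val e]
      exact (mem_centralizer_singleton_iff.1 hc).symm
    have hzQ : zH ∈ (Q : Subgroup H) := (hQS zH).2 hzS
    have hzH2 : orderOf zH = 2 := by rw [← Subgroup.orderOf_coe]; exact hz2
    have hzQc : ∀ r ∈ (Q : Subgroup H), r * zH = zH * r := fun r hr =>
      Subtype.ext (hzc r ((hQS r).1 hr))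
    have hNQ : centralizer ({zH} : Set H) ≤ normalizer ((Q : Subgroup H) : Set H) := by
      intro c hc
      have h1 := hcent (mem_centralizer_singleton_iff.2
        (congrArg Subtype.val (mem_centralizer_singleton_iff.1 hc)))
      refine mem_normalizer_iff.2 fun x => ?_
      rw [hQS, hQS]
      exact mem_normalizer_iff.1 h1 x
    rcases se_or_char (hG.sub H) noTwo_residual Q hzQ hzH2 hzQc hNQ with hse | hchar
    · exact Or.inl hse
    refine Or.inr (Or.inl ⟨hZH, hchar, fun Q' => ?_⟩)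
    obtain ⟨g, hg⟩ := MulAction.exists_smul_eq H Q Q'
    have hmem : ∀ x : H, x ∈ (Q' : Subgroup H) ↔ g⁻¹ * x * g ∈ (Q : Subgroup H) := fun x => by
      rw [← hg, Sylow.coe_subgroup_smul, Subgroup.mem_pointwise_smul_iff_inv_smul_mem]
      simp [mul_assoc]
    refine ⟨g * zH * g⁻¹, ⟨(hmem _).2 (by simpa [mul_assoc] using hzQ), ?_, fun s hs => ?_⟩,
      fun c hc => ?_⟩
    · rw [conj_pow, show zH ^ 2 = 1 from hzH2 ▸ pow_orderOf_eq_one zH, mul_one, mul_inv_cancel]
    · calc s * (g * zH * g⁻¹) = g * ((g⁻¹ * s * g) * zH) * g⁻¹ := by group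
        _ = g * zH * g⁻¹ * s := by rw [hzQc _ ((hmem s).1 hs)]; group
    · have h1 := hNQ (x := g⁻¹ * c * g) (mem_centralizer_singleton_iff.2 (by
        calc g⁻¹ * c * g * zH = g⁻¹ * (c * (g * zH * g⁻¹)) * g := by group
          _ = zH * (g⁻¹ * c * g) := by rw [mem_centralizer_singleton_iff.1 hc]; group))
      refine mem_normalizer_iff.2 fun x => ?_
      rw [hmem, hmem, mem_normalizer_iff.1 h1 (g⁻¹ * x * g),
        show g⁻¹ * c * g * (g⁻¹ * x * g) * (g⁻¹ * c * g)⁻¹ = g⁻¹ * (c * x * c⁻¹) * g by group]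
  have hZ4 : 4 ≤ Nat.card Z := by
    obtain ⟨k, hk⟩ := IsPGroup.iff_card.1 (S.2.to_le hZS)
    rcases k with _ | _ | k
    · rw [pow_zero] at hk
      have h := Subgroup.card_eq_one.1 hk
      exact absurd (mem_bot.1 (h ▸ hzZ)) hz1
    · exact absurd hk h2
    · rw [hk, pow_succ, pow_succ]
      have := Nat.two_pow_pos k
      omega
  by_cases hbig : ∃ F, Big F ∧ F ≤ (S : Subgroup G)
  · -- all involutions are deep
    obtain ⟨F₀, hF₀, hF₀S⟩ := hbig
    have hdeep : ∀ x ∈ (S : Subgroup G), orderOf x = 2 → Deep (S : Subgroup G) x := by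
      intro x hx hx2
      by_cases hxZ : x ∈ Z
      · exact ⟨F₀, hF₀, hF₀S, fun f hf => (mem_Z₁.1 hxZ).2.2 f (hF₀S hf)⟩
      · obtain ⟨F, hF, -, hxF, hle⟩ := big_insert hZsq hZ4 (mul_self_of_orderOf_two hx2) hxZ
          (fun a ha => ((mem_Z₁.1 ha).2.2 x hx).symm)
        exact ⟨F, hF, hle _ hZS hx, fun f hf => Coprime.ea_comm hF.1 hf hxF⟩
    rcases functor hG S hzS hz2 hzc hF₀ hF₀S hdeep with ⟨M, hM⟩ | hc
    · exact Or.inl (se_residual hcore hO heven hM)
    · exact Or.inr (Or.inr (Or.inr hc))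
  -- rank two
  refine Or.inr (Or.inr (Or.inl ?_))
  have hZc4 : Nat.card Z = 4 := by
    refine le_antisymm ?_ hZ4
    by_contra hlt
    obtain ⟨k, hk⟩ := IsPGroup.iff_card.1 (S.2.to_le hZS)
    refine hbig ⟨Z, ⟨ea_of_sq hZsq, ?_⟩, hZS⟩
    rw [hk] at hlt ⊢
    refine Nat.pow_le_pow_right two_pos ?_
    by_contra hk3
    have := Nat.pow_le_pow_right two_pos (show k ≤ 2 by omega)
    omega
  have hinv : ∀ x ∈ (S : Subgroup G), x * x = 1 → x ∈ Z := fun x hx hxx =>
    mem_of_comm (fun F hF hFS => hbig ⟨F, hF, hFS⟩) hZS hZsq hZc4 hx hxx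
      fun a ha => ((mem_Z₁.1 ha).2.2 x hx).symm
  refine ⟨hZc4, le_antisymm ?_ ?_⟩
  · rw [Cfsg.omegaOne, closure_le]
    rintro x ⟨hx, hx2⟩
    exact hinv x (mem_inf.1 hx).1 (by rwa [← pow_two])
  intro a ha
  suffices haH : a ∈ H by
    exact subset_closure ⟨mem_inf.2 ⟨hZS ha, haH⟩, by rw [pow_two]; exact hZsq a ha⟩
  -- the central involutions lie in `O^2(G)`
  obtain ⟨g, hgQ, hgne⟩ := (hG.sub H).exists_fused Q ((hQS zH).2 hzS)
    (by rw [← Subgroup.orderOf_coe]; exact hz2)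
  have hg' : ((g * zH * g⁻¹ : H) : G) ∈ Z := hinv _ ((hQS _).1 hgQ) (by
    rw [Subgroup.coe_mul, Subgroup.coe_mul, Subgroup.coe_inv,
      show ((g : H) : G) * z * (g : G)⁻¹ * ((g : G) * z * (g : G)⁻¹) = (g : G) * (z * z) * (g : G)⁻¹ by
        group, hzz]
    group)
  have hne : ((g * zH * g⁻¹ : H) : G) ≠ z := fun e => hgne (Subtype.ext e)
  have hne1 : ((g * zH * g⁻¹ : H) : G) ≠ 1 := fun e => by
    have : g * zH * g⁻¹ = 1 := Subtype.ext e
    exact hz1 (congrArg Subtype.val (conj_eq_one_iff.1 this))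
  have hfour := fourOf_le (ha := hzz) (hb := hZsq _ hg') (hab := ((mem_Z₁.1 hzZ).2.2 _ (hZS hg')).symm)
    hzZ hg'
  have heq := Subgroup.eq_of_le_of_card_ge hfour
    (by rw [hZc4, fourOf_card hz1 hne1 hne.symm])
  have ha' : a ∈ Z₁ (S : Subgroup G) := ha
  rw [← heq] at ha'
  exact fourOf_le hzH (g * zH * g⁻¹).2 ha'

include hcore hO heven hZ in
/-- The structure theorem for groups with solvable 2-local subgroups. -/
theorem structure_theorem (hN : ∀ L : Subgroup G, Cfsg.IsTwoLocal L → Group.IsSolvable L) (S : Sylow 2 G) :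
    (∃ M : Subgroup ↥(Cfsg.pResidual 2 G), Cfsg.IsStronglyEmbedded M) ∨
      ((∃ n : ℕ, 2 ≤ n ∧ Nonempty (↥((S : Subgroup G) ⊓ Cfsg.pResidual 2 G) ≃* DihedralGroup n)) ∨
        Cfsg.IsQuasiDihedral ↥((S : Subgroup G) ⊓ Cfsg.pResidual 2 G)) ∨
      (Nat.card ↥(Z₁ (S : Subgroup G)) = 4 ∧
        Cfsg.omegaOne 2 ((S : Subgroup G) ⊓ Cfsg.pResidual 2 G) = Z₁ (S : Subgroup G)) := by
  haveI : Fact (Nat.Prime 2) := ⟨Nat.prime_two⟩
  have hsol : ∀ t : G, orderOf t = 2 → Group.IsSolvable ↥(centralizer ({t} : Set G)) := fun t ht => by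
    have hloc : Cfsg.IsTwoLocal (normalizer ((zpowers t : Subgroup G) : Set G)) :=
      ⟨zpowers t, IsPGroup.of_card (n := 1) (by rw [Nat.card_zpowers, ht, pow_one]),
        zpowers_ne_bot.2 (fun e => by rw [e, orderOf_one] at ht; omega), rfl⟩
    haveI := hN _ hloc
    have hle : centralizer ({t} : Set G) ≤ normalizer ((zpowers t : Subgroup G) : Set G) := by
      rw [← centralizer_closure, ← zpowers_eq_closure]
      exact centralizer_le_normalizer _
    exact solvable_of_solvable_injective (Subgroup.inclusion_injective hle)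
  rcases dichotomy hcore hO heven hsol hZ S with h | ⟨-, hchar, hQ⟩ | h | hc
  · exact Or.inl h
  · set H := Cfsg.pResidual 2 G with hH
    have hNH : ∀ L : Subgroup H, Cfsg.IsTwoLocal L → Group.IsSolvable L := by
      rintro L ⟨T, hT, hT1, rfl⟩
      haveI := hN _ ⟨T.map H.subtype, hT.map _,
        fun e => hT1 ((map_eq_bot_iff_of_injective T H.subtype_injective).1 e), rfl⟩
      have hle : (normalizer (T : Set H)).map H.subtype ≤
          normalizer ((T.map H.subtype : Subgroup G) : Set G) := le_normalizer_map _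
      exact solvable_of_solvable_injective
        (f := (Subgroup.inclusion hle).comp ((normalizer (T : Set H)).equivMapOfInjective H.subtype
          H.subtype_injective).toMonoidHom)
        ((Subgroup.inclusion_injective hle).comp (MulEquiv.injective _))
    have hO' : Cfsg.pCore 2 H = ⊥ := ((⟨hsol, hcore, hO⟩ : ZC G).sub H).two
    obtain ⟨Q, hQ'⟩ := sylow_inter H S
    rcases pair_sylow hchar hO' hNH (fun Q' => by
        obtain ⟨w, hw, hwN⟩ := hQ Q'
        refine le_trans (fun c hc => ?_) hwN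
        exact mem_centralizer_singleton_iff.2 (mem_centralizer_iff.1 hc w hw).symm) Q with hse | hd
    · exact Or.inl hse
    · have htop : Cfsg.pResidual 2 ↥H = ⊤ := Fusion.pResidual_pResidual
      have e : ↥((Q : Subgroup H) ⊓ Cfsg.pResidual 2 ↥H) ≃* ↥((S : Subgroup G) ⊓ H) :=
        (MulEquiv.subgroupCongr (by rw [htop, inf_top_eq])).trans
          (((Q : Subgroup H).equivMapOfInjective H.subtype H.subtype_injective).trans
            (MulEquiv.subgroupCongr hQ'))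
      exact Or.inr (Or.inl (hd.imp (fun ⟨n, hn, ⟨i⟩⟩ => ⟨n, hn, ⟨e.symm.trans i⟩⟩)
        (isQuasiDihedral_congr e)))
  · exact Or.inr (Or.inr h)
  · have hchar : Cfsg.IsCharacteristicTwoType G := S0505.result heven hsol hc
    rcases pair_sylow hchar hO hN (fun T => by
        refine le_trans (le_of_eq ?_) (hZ T)
        conv_rhs => rw [Z₁, Cfsg.omegaOne, centralizer_closure]
        congr 1
        ext z
        simp only [Set.mem_setOf_eq, mem_inf, mem_centralizer_iff, SetLike.mem_coe]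
        exact ⟨fun h => ⟨⟨h.1, h.2.2⟩, h.2.1⟩, fun h => ⟨h.1.1, h.2, h.1.2⟩⟩) S with ⟨M, hM⟩ | hd
    · exact Or.inl (se_residual hcore hO heven hM)
    · exact Or.inr (Or.inl hd)

include hcore hO heven hsol hZ in
/-- The reduction to local characteristic 2. -/
theorem reduction (S : Sylow 2 G) :
    (∃ M : Subgroup ↥(Cfsg.pResidual 2 G), Cfsg.IsStronglyEmbedded M) ∨
      (Nat.card ↥(Z₁ (S : Subgroup G)) = 4 ∧
        Cfsg.omegaOne 2 ((S : Subgroup G) ⊓ Cfsg.pResidual 2 G) = Z₁ (S : Subgroup G)) ∨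
      Cfsg.IsCharacteristicTwoType ↥(Cfsg.pResidual 2 G ⊔ Z₁ (S : Subgroup G)) := by
  haveI : Fact (Nat.Prime 2) := ⟨Nat.prime_two⟩
  rcases dichotomy hcore hO heven hsol hZ S with h | ⟨hZH, hchar, -⟩ | h | hc
  · exact Or.inl h
  · refine Or.inr (Or.inr ?_)
    rw [sup_eq_left.2 hZH]
    exact hchar
  · exact Or.inr (Or.inl h)
  refine Or.inr (Or.inr ?_)
  set N := Cfsg.pResidual 2 G ⊔ Z₁ (S : Subgroup G) with hN
  haveI : N.Normal := by
    refine normalizer_eq_top_iff.1 (top_le_iff.1 ?_)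
    rw [← Fusion.sylow_sup_pResidual S]
    refine sup_le (fun s hs => ?_) (le_sup_left.trans le_normalizer)
    have h1 : (Cfsg.pResidual 2 G).map (MulAut.conj s).toMonoidHom = Cfsg.pResidual 2 G :=
      map_conj_eq_of_mem_normalizer (by rw [normalizer_eq_top]; exact mem_top s)
    have h2 : (Z₁ (S : Subgroup G)).map (MulAut.conj s).toMonoidHom = Z₁ (S : Subgroup G) :=
      map_conj_eq_of_mem_normalizer (centralizer_le_normalizer _
        (mem_centralizer_iff.2 fun x hx => ((mem_Z₁.1 hx).2.2 s hs).symm))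
    refine mem_normalizer_of_map_eq ?_
    rw [hN, Subgroup.map_sup, h1, h2]
  refine S0505.result ?_ (solvable_cent_sub hsol N) (core_cent_sub hc N)
  obtain ⟨z, hz, hz2⟩ := exists_central_invol hcore hO heven S
  have hzN : z ∈ N := mem_sup_left (mem_inf.1 hz).2
  rw [even_iff_two_dvd, ← hz2]
  have h1 := orderOf_dvd_natCard (⟨z, hzN⟩ : N)
  rwa [← Subgroup.orderOf_coe] at h1

end Cfsg.Agent.ZNGroup
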