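import Cfsg.Agent.TwoTransfer.Basic
import Cfsg.Agent.Invol.ZStarElt
import Cfsg.Agent.Core.PCore
import Cfsg.Agent.Dichotomy.Setup
import Cfsg.Agent.Layer.PConstraint

/-!
Basic facts on finite groups with solvable involution centralisers and trivial cores.
-/

set_option autoImplicit false
set_option linter.unusedSectionVars false

namespace Cfsg.Agent.ZNGroup

open Subgroup Cfsg Dichotomy

/-- Solvable involution centralisers, trivial 2'-core and trivial 2-core. -/
structure ZC (X : Type*) [Group X] : Prop where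
  sol : ∀ t : X, orderOf t = 2 → Group.IsSolvable ↥(centralizer ({t} : Set X))
  core : Cfsg.oddCore X = ⊥
  two : Cfsg.pCore 2 X = ⊥

/-- No normal subgroup of index two. -/
def NoTwo (X : Type*) [Group X] : Prop := ∀ N : Subgroup X, N.Normal → N.index ≠ 2

variable {X : Type*} [Group X] [Finite X]

theorem ZC.cons (h : ZC X) (t : X) (ht : orderOf t = 2) :
    IsPConstrained 2 ↥(centralizer ({t} : Set X)) := by
  haveI : Fact (Nat.Prime 2) := ⟨Nat.prime_two⟩
  haveI := h.sol t ht
  exact Layer.isPConstrained_of_isSolvable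

theorem core_eq_bot_of_theta {t : X} (h : theta t = ⊥) :
    Cfsg.oddCore ↥(centralizer ({t} : Set X)) = ⊥ :=
  (map_eq_bot_iff_of_injective _ (centralizer ({t} : Set X)).subtype_injective).1 h

theorem ZC.balance (h : ZC X) {a b : X} (ha : orderOf a = 2) (hb : orderOf b = 2)
    (hab : a * b = b * a) : theta a ⊓ centralizer {b} ≤ theta b := by
  haveI : Fact (Nat.Prime 2) := ⟨Nat.prime_two⟩
  exact Signalizer.core_balance hab ha (h.cons b hb)

/-- An involution of a Sylow 2-subgroup is fused to another element of it. -/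
theorem ZC.exists_fused (h : ZC X) (R : Sylow 2 X) {z : X} (hz : z ∈ (R : Subgroup X))
    (hz2 : orderOf z = 2) :
    ∃ g : X, g * z * g⁻¹ ∈ (R : Subgroup X) ∧ g * z * g⁻¹ ≠ z := by
  haveI : Fact (Nat.Prime 2) := ⟨Nat.prime_two⟩
  by_contra hc
  push Not at hc
  have hiso : ∀ y ∈ zpowers z, ∀ g : X, g * y * g⁻¹ ∈ (R : Subgroup X) → g * y * g⁻¹ = y := by
    intro y hy g hg
    obtain ⟨k, rfl⟩ := mem_zpowers_iff.1 hy
    rcases Int.even_or_odd k with ⟨j, rfl⟩ | ⟨j, rfl⟩
    · have : z ^ (j + j) = 1 := by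
        rw [← two_mul, zpow_mul, zpow_ofNat, ← hz2, pow_orderOf_eq_one, one_zpow]
      rw [this]; group
    · have : z ^ (2 * j + 1) = z := by
        rw [zpow_add, zpow_mul, zpow_ofNat, ← hz2, pow_orderOf_eq_one, one_zpow, one_mul, zpow_one]
      rw [this] at hg ⊢
      exact hc g hg
  have hcen : z ∈ center X := mem_center_iff.2 fun g => by
    have h1 := Invol.zstar_elt R hz hiso g
    rw [h.core, mem_bot, mul_inv_eq_one, mul_inv_eq_iff_eq_mul] at h1
    exact h1.symm
  haveI : (zpowers z).Normal := ⟨fun n hn g => by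
    have : n ∈ center X := (zpowers_le.2 hcen) hn
    rw [mem_center_iff.1 this g, mul_inv_cancel_right]; exact hn⟩
  have h2 : IsPGroup 2 ↥(zpowers z) :=
    IsPGroup.of_card (n := 1) (by rw [Nat.card_zpowers, hz2, pow_one])
  have h3 := Core.le_pCore h2
  rw [h.two, zpowers_le, mem_bot] at h3
  rw [h3, orderOf_one] at hz2
  omega

/-- Thompson's transfer lemma. -/
theorem exists_conj_mem (hn : NoTwo X) (R : Sylow 2 X) {M : Subgroup X}
    (hM : M.relIndex (R : Subgroup X) = 2) {x : X} (hx : x ∈ (R : Subgroup X)) (hx2 : x * x = 1) :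
    ∃ g : X, g * x * g⁻¹ ∈ (R : Subgroup X) ∧ g * x * g⁻¹ ∈ M := by
  by_contra hc
  push Not at hc
  obtain ⟨N, hN, hi, -⟩ := TwoTransfer.exists_index_two R M hM x hx
    (fun k g hk _ => by
      obtain ⟨j, rfl⟩ := Nat.exists_eq_add_of_le hk
      rw [pow_add, pow_mul, pow_one, pow_two, hx2, one_pow, mul_one, inv_mul_cancel]
      exact one_mem _)
    (fun g hg => by
      have := hc g⁻¹ (by rwa [inv_inv])
      rwa [inv_inv] at this)
  exact hn N hN hi

/-- Squares of a Sylow 2-subgroup lie in its subgroups of index two. -/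
theorem sq_mem_of_relIndex {R M : Subgroup X} (hM : M.relIndex R = 2) {x : X} (hx : x ∈ R) :
    x * x ∈ M := by
  have h := sq_mem_of_index_two (H := M.subgroupOf R) hM ⟨x, hx⟩
  rw [pow_two, mem_subgroupOf] at h
  exact h

end Cfsg.Agent.ZNGroup
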