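import Cfsg.Agent.ZNGroup.RankTwo
import Cfsg.Agent.Dichotomy.Same

/-!
Rank at least three: every involution of a Sylow 2-subgroup centralises in it an elementary
abelian subgroup of order eight.
-/

set_option autoImplicit false
set_option linter.unusedSectionVars false

namespace Cfsg.Agent.ZNGroup

open Subgroup Cfsg Dichotomy

variable {X : Type*} [Group X] [Finite X]

/-- An involution of `R` centralising a big subgroup of `R`. -/
def Deep (R : Subgroup X) (x : X) : Prop := ∃ F, Big F ∧ F ≤ R ∧ ∀ f ∈ F, f * x = x * f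

theorem deep_of_mem_centralizer {R : Sylow 2 X} {A0 : Subgroup X} {z : X} (hb : Base R A0 z)
    {x : X} (hx : x ∈ (R : Subgroup X)) (hx2 : x * x = 1) (hc : ∀ a ∈ A0, a * x = x * a) :
    Deep (R : Subgroup X) x := by
  by_cases hxA : x ∈ A0
  · obtain ⟨T, hT, hTS, hTc⟩ := hb.exists_big_comm
    exact ⟨T, hT, hTS, fun f hf => (hTc x hxA f hf).symm⟩
  · obtain ⟨F, hF, -, hxF, hle⟩ := big_insert hb.sq hb.card.ge hx2 hxA hc
    exact ⟨F, hF, hle _ hb.le hx, fun f hf => Coprime.ea_comm hF.1 hf hxF⟩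

/-- Rank at least three: every involution of `R` is deep. -/
theorem connected (hn : NoTwo X) (R : Sylow 2 X) {z : X} (hz : z ∈ (R : Subgroup X))
    (hz2 : orderOf z = 2) (hzc : ∀ r ∈ (R : Subgroup X), r * z = z * r)
    (hN : centralizer ({z} : Set X) ≤ normalizer ((R : Subgroup X) : Set X))
    {F₀ : Subgroup X} (hF₀ : Big F₀) (hF₀R : F₀ ≤ (R : Subgroup X))
    {x : X} (hx : x ∈ (R : Subgroup X)) (hx2 : orderOf x = 2) : Deep (R : Subgroup X) x := by
  haveI : Fact (Nat.Prime 2) := ⟨Nat.prime_two⟩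
  obtain ⟨A0, hb⟩ := exists_base R hz hz2 hzc hF₀ hF₀R
  obtain ⟨a, haA, ha1, haz⟩ := hb.exists_w
  obtain ⟨hcases, hcom, hmove, hcent⟩ :=
    four_move hb.card hb.sq hb.norm hb.mem hb.ne hb.central haA ha1 haz
  have hxx := mul_self_of_orderOf_two hx2
  by_cases hxa : x * a = a * x
  · exact deep_of_mem_centralizer hb hx hxx (hcent x hx hxa)
  by_contra hnd
  have hidx := relIndex_two hmove hx hxa
  have hMdeep : ∀ y ∈ (R : Subgroup X), y * y = 1 → y * a = a * y → Deep (R : Subgroup X) y :=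
    fun y hy hy2 h => deep_of_mem_centralizer hb hy hy2 (hcent y hy h)
  -- `x` centralises a big subgroup of `X`
  obtain ⟨g, hgR, hgM⟩ := exists_conj_mem hn R hidx hx hxx
  obtain ⟨F, hF, hFR, hFc⟩ := hMdeep _ hgR (by
    rw [show g * x * g⁻¹ * (g * x * g⁻¹) = g * (x * x) * g⁻¹ by group, hxx]; group)
    (mem_centralizer_singleton_iff.1 (mem_inf.1 hgM).2)
  set C := centralizer ({x} : Set X) with hC
  set T := (R : Subgroup X) ⊓ C with hT
  have hT2 : IsPGroup 2 T := R.2.to_le inf_le_left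
  obtain ⟨P, hP⟩ := (hT2.comap_subtype (K := C)).exists_le_sylow
  set P' := (P : Subgroup C).map C.subtype with hP'
  have hP'2 : IsPGroup 2 P' := P.2.map _
  have hTP : T ≤ P' := fun y hy => ⟨⟨y, (mem_inf.1 hy).2⟩, hP (mem_subgroupOf.2 hy), rfl⟩
  have hP'C : P' ≤ C := map_subtype_le _
  have hxT : x ∈ T := mem_inf.2 ⟨hx, mem_centralizer_singleton_iff.2 rfl⟩
  have hzT : z ∈ T := mem_inf.2 ⟨hz, mem_centralizer_singleton_iff.2 (hzc x hx).symm⟩
  -- `P'` contains a big subgroup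
  have hlt : T < P' := by
    refine lt_of_le_of_ne hTP fun e => ?_
    set F' := F.map (MulAut.conj g⁻¹).toMonoidHom with hF'
    have hF'C : F' ≤ C := by
      rintro _ ⟨f, hf, rfl⟩
      refine mem_centralizer_singleton_iff.2 ?_
      simp only [MulEquiv.coe_toMonoidHom, MulAut.conj_apply, inv_inv]
      calc g⁻¹ * f * g * x = g⁻¹ * (f * (g * x * g⁻¹)) * g := by group
        _ = x * (g⁻¹ * f * g) := by rw [hFc f hf]; group
    obtain ⟨Q, hQ⟩ := (((R.2.to_le hFR).map (MulAut.conj g⁻¹).toMonoidHom).comap_subtype (K := C)).exists_le_sylow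
    obtain ⟨c, hc⟩ := MulAction.exists_smul_eq C Q P
    have hle : F'.map (MulAut.conj (c : X)).toMonoidHom ≤ P' := by
      rintro _ ⟨f, hf, rfl⟩
      refine ⟨MulAut.conj c ⟨f, hF'C hf⟩, ?_, rfl⟩
      rw [← hc, Sylow.coe_subgroup_smul]
      exact ⟨⟨f, hF'C hf⟩, hQ (mem_subgroupOf.2 hf), rfl⟩
    rw [← e] at hle
    exact hnd ⟨_, big_conj (big_conj hF g⁻¹) c, hle.trans inf_le_left,
      fun f hf => mem_centralizer_singleton_iff.1 (mem_inf.1 (hle hf)).2⟩
  haveI : Group.IsNilpotent P' := hP'2.isNilpotent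
  have hlt' : T.subgroupOf P' < ⊤ :=
    lt_top_iff_ne_top.2 fun h => hlt.not_ge (subgroupOf_eq_top.1 h)
  obtain ⟨⟨y, hyP⟩, hyn, hyT⟩ := SetLike.exists_of_lt (normalizerCondition_of_isNilpotent _ hlt')
  rw [mem_subgroupOf] at hyT
  have hyN : ∀ t ∈ T, y * t * y⁻¹ ∈ T := fun t ht => by
    have := (mem_normalizer_iff.1 hyn ⟨t, hTP ht⟩).1 (by simpa [mem_subgroupOf] using ht)
    simpa [mem_subgroupOf] using this
  have hyx : y * x = x * y := mem_centralizer_singleton_iff.1 (hP'C hyP)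
  have hyz : y * z * y⁻¹ ≠ z := fun e => hyT <| mem_inf.2
    ⟨mem_sylow_of_normalizes R (hP'2.to_le (zpowers_le.2 hyP))
      (hN (mem_centralizer_singleton_iff.2 (mul_inv_eq_iff_eq_mul.1 e))), hP'C hyP⟩
  -- the involutions of `T`
  have hzz := mul_self_of_orderOf_two hz2
  have hzx : z ≠ x := fun e => hxa (by
    rw [← e]; exact (hb.central a (hb.le haA)).symm)
  have hx1 : x ≠ 1 := fun e => by rw [e, orderOf_one] at hx2; omega
  set E := fourOf z x hzz hxx (hzc x hx).symm with hE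
  have hTinv : ∀ w ∈ T, w * w = 1 → w ∈ E := by
    intro w hw hw2
    by_contra hwE
    obtain ⟨hwR, hwx⟩ := mem_inf.1 hw
    rw [mem_centralizer_singleton_iff] at hwx
    obtain ⟨F₁, hF₁, hEF, -, hle⟩ := big_insert (E := E) fourOf_sq
      (fourOf_card hb.ne hx1 hzx).ge hw2 hwE (fun e he => by
        rcases mem_fourOf.1 he with rfl | rfl | rfl | rfl
        · simp
        · exact (hzc w hwR).symm
        · exact hwx.symm
        · rw [mul_assoc, ← hwx, ← mul_assoc, ← hzc w hwR, mul_assoc])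
    exact hnd ⟨F₁, hF₁, hle _ (fourOf_le hz hx) hwR,
      fun f hf => Coprime.ea_comm hF₁.1 hf (hEF fourOf_right)⟩
  have hz' : y * z * y⁻¹ = z * x := by
    have hmem := hTinv _ (hyN z hzT) (by
      rw [show y * z * y⁻¹ * (y * z * y⁻¹) = y * (z * z) * y⁻¹ by group, hzz]; group)
    rcases mem_fourOf.1 hmem with e | e | e | e
    · exact absurd (conj_eq_one_iff.1 e) hb.ne
    · exact absurd e hyz
    · refine absurd ?_ hzx
      calc z = y⁻¹ * (y * z * y⁻¹) * y := by group
        _ = x := by rw [e, mul_assoc, ← hyx, inv_mul_cancel_left]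
    · exact e
  -- squares of `T` centralise `a`
  have hsq : ∀ w ∈ T, (w * w) * a = a * (w * w) := fun w hw =>
    mem_centralizer_singleton_iff.1
      (mem_inf.1 (sq_mem_of_relIndex hidx (mem_inf.1 hw).1)).2
  have hexp : ∀ w ∈ T, w * w = 1 := by
    intro w hw
    by_contra hw2
    obtain ⟨u, hu, huu⟩ := exists_sq_invol hT2 hw hw2
    have h1 := hsq u hu
    rcases mem_fourOf.1 (hTinv _ (mul_mem hu hu) (mul_self_of_orderOf_two huu)) with e | e | e | e
    · rw [e, orderOf_one] at huu; omega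
    · have h2 := hsq _ (hyN u hu)
      rw [show y * u * y⁻¹ * (y * u * y⁻¹) = y * (u * u) * y⁻¹ by group, e, hz'] at h2
      rw [mul_assoc z x a, ← mul_assoc a, hb.central a (hb.le haA), mul_assoc z a x] at h2
      exact hxa (mul_left_cancel h2)
    · rw [e] at h1; exact hxa h1
    · rw [e, mul_assoc z x a, ← mul_assoc a, hb.central a (hb.le haA), mul_assoc z a x] at h1
      exact hxa (mul_left_cancel h1)
  have hTE : T ≤ E := fun w hw => hTinv w hw (hexp w hw)
  have h4 : Nat.card T ≤ 4 :=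
    (Nat.le_of_dvd Nat.card_pos (card_dvd_of_le hTE)).trans (fourOf_card hb.ne hx1 hzx).le
  exact not_big_of_cycTwo
    (cycTwo_of_small _ R.2 hx hz hx2 hz2 hzx.symm (hzc x hx) h4) hF₀ hF₀R

end Cfsg.Agent.ZNGroup
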