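import Cfsg.Agent.Dichotomy.Local
import Cfsg.Agent.Dichotomy.Setup
import Cfsg.Agent.Fusion.UniqueInvolution
import Cfsg.Agent.FusSys.DihedralAut

/-!
A 2-constrained group with a big elementary abelian 2-subgroup and a single involution in the
2-part of `O_{2',2}` is 2-nilpotent.
-/

set_option autoImplicit false
set_option linter.unusedSectionVars false

namespace Cfsg.Agent.ZNGroup

open Subgroup Cfsg Dichotomy

/-- The automorphism group of a cyclic 2-group is a 2-group. -/
theorem isPGroup_mulAut_cyclic {Q : Type*} [Group Q] [Finite Q] [IsCyclic Q] (hQ : IsPGroup 2 Q) :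
    IsPGroup 2 (MulAut Q) := by
  haveI : Fact (Nat.Prime 2) := ⟨Nat.prime_two⟩
  obtain ⟨n, hn⟩ := IsPGroup.iff_card.1 hQ
  rcases n with _ | n
  · haveI : Subsingleton Q := (Nat.card_eq_one_iff_unique.1 (by simpa using hn)).1
    intro f
    exact ⟨0, MulEquiv.ext fun x => Subsingleton.elim _ _⟩
  refine IsPGroup.of_card (n := n) ?_
  rw [Nat.card_congr (IsCyclic.mulAutMulEquiv Q).toEquiv, hn,
    Nat.card_eq_fintype_card, ZMod.card_units_eq_totient, Nat.totient_prime_pow_succ Nat.prime_two]
  simp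

variable {C : Type*} [Group C] [Finite C]

/-- The automorphisms of a group of order at most four form a group of order dividing six. -/
theorem card_mulAut_dvd {V : Type*} [Group V] [Finite V] (hV : Nat.card V ≤ 4) :
    Nat.card (MulAut V) ∣ 6 := by
  classical
  haveI := Fintype.ofFinite V
  let r : MulAut V →* Equiv.Perm {v : V // v ≠ 1} :=
    { toFun := fun f => f.toEquiv.subtypeEquiv (fun v => (EmbeddingLike.map_eq_one_iff (f := f)).not.symm)
      map_one' := Equiv.ext fun v => rfl
      map_mul' := fun f g => Equiv.ext fun v => rfl }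
  have hr : Function.Injective r := by
    intro f g hfg
    refine MulEquiv.ext fun v => ?_
    by_cases hv : v = 1
    · rw [hv, map_one, map_one]
    · exact congrArg Subtype.val (Equiv.congr_fun hfg ⟨v, hv⟩)
  refine (Subgroup.card_dvd_of_injective r hr).trans ?_
  rw [Nat.card_perm]
  have h3 : Nat.card {v : V // v ≠ 1} ≤ 3 := by
    rw [Nat.card_eq_fintype_card, Fintype.card_subtype_compl, Fintype.card_subtype_eq,
      ← Nat.card_eq_fintype_card]
    omega
  exact (Nat.factorial_dvd_factorial h3)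

/-- The quotient by the core is a 2-group. -/
theorem isPGroup_quotient (hc : IsPConstrained 2 C) (R : Sylow 2 C) {e : C} (he : orderOf e = 2)
    (hec : e ∈ center C) {F : Subgroup C} (hF : Big F) (hFR : F ≤ (R : Subgroup C))
    (huniq : ∀ q ∈ corePart R, q * q = 1 → q = 1 ∨ q = e) :
    IsPGroup 2 (C ⧸ pPrimeCore 2 C) := by
  haveI : Fact (Nat.Prime 2) := ⟨Nat.prime_two⟩
  set Q := corePart R with hQ
  have hee := mul_self_of_orderOf_two he
  have heR : e ∈ (R : Subgroup C) := by
    have h2 : IsPGroup 2 ↥(zpowers e ⊔ (R : Subgroup C)) :=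
      (IsPGroup.of_card (n := 1) (by rw [Nat.card_zpowers, he, pow_one])).to_sup_of_normal_right' R.2
        (zpowers_le.2 (center_le_normalizer _ hec))
    rw [← R.3 h2 le_sup_right]
    exact mem_sup_left (mem_zpowers e)
  have heQ : e ∈ Q := mem_corePart_of_centralizes hc R heR fun u _ => (mem_center_iff.1 hec u).symm
  have hRQ : (R : Subgroup C) ≤ normalizer (Q : Set C) := fun r hr => by
    refine mem_normalizer_fintype fun x hx => ?_
    haveI : (pPrimePCore 2 C).Normal := (Cfsg.pCore_normal 2 (C ⧸ pPrimeCore 2 C)).comap _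
    exact mem_inf.2 ⟨mul_mem (mul_mem hr hx.1) (inv_mem hr), (inferInstance : (pPrimePCore 2 C).Normal).conj_mem x hx.2 r⟩
  have hQ2 : IsPGroup 2 Q := corePart_isPGroup R
  by_cases h8 : Nat.card Q ≤ 8
  · -- some element of `F` outside `⟨e⟩` moves `Q` only modulo `e`
    exfalso
    let K : Subgroup Q := zpowers ⟨e, heQ⟩
    have hKn : K.Normal := ⟨fun n hn g => by
      obtain ⟨k, rfl⟩ := mem_zpowers_iff.1 hn
      have : g * (⟨e, heQ⟩ : Q) ^ k * g⁻¹ = (⟨e, heQ⟩ : Q) ^ k := by
        have hcm : Commute g (⟨e, heQ⟩ : Q) := Subtype.ext (mem_center_iff.1 hec g)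
        rw [(hcm.zpow_right k).eq, mul_inv_cancel_right]
      rw [this]; exact zpow_mem (mem_zpowers _) k⟩
    let φ : F →* MulAut Q :=
      MonoidHom.mk' (fun f => Q.normalizerMonoidHom ⟨f, hRQ (hFR f.2)⟩)
        (fun a b => (map_mul Q.normalizerMonoidHom ⟨a, hRQ (hFR a.2)⟩ ⟨b, hRQ (hFR b.2)⟩))
    have hφ : ∀ (f : F) (q : Q), ((φ f q : Q) : C) = (f : C) * q * (f : C)⁻¹ := fun f q => rfl
    have hfe : ∀ f : F, φ f ⟨e, heQ⟩ = ⟨e, heQ⟩ := fun f => Subtype.ext (by
      rw [hφ]
      show (f : C) * e * (f : C)⁻¹ = e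
      rw [mem_center_iff.1 hec, mul_inv_cancel_right])
    have hK : ∀ f : F, K.map (φ f).toMonoidHom = K := fun f => by
      rw [MonoidHom.map_zpowers]
      exact congrArg zpowers (hfe f)
    let ψ : F →* MulAut (Q ⧸ K) :=
      MonoidHom.mk' (fun f => QuotientGroup.congr K K (φ f) (hK f)) (fun a b => by
        refine MulEquiv.ext fun v => ?_
        obtain ⟨u, rfl⟩ := QuotientGroup.mk'_surjective K v
        simp [map_mul, MulAut.mul_apply]
        rfl)
    have hV : Nat.card (Q ⧸ K) ≤ 4 := by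
      have := K.card_mul_index
      rw [Nat.card_zpowers, ← Subgroup.orderOf_coe, he] at this
      rw [← Subgroup.index_eq_card]
      omega
    have hrange : Nat.card ψ.range ≤ 2 := by
      obtain ⟨k, hk⟩ := IsPGroup.iff_card.1
        ((R.2.to_le hFR).of_surjective ψ.rangeRestrict ψ.rangeRestrict_surjective)
      have hd : Nat.card ψ.range ∣ 6 := (card_subgroup_dvd_card _).trans (card_mulAut_dvd hV)
      rcases k with _ | _ | k
      · rw [hk]; norm_num
      · rw [hk]; norm_num
      · exfalso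
        rw [hk] at hd
        have : 4 ∣ 6 := (pow_dvd_pow 2 (show 2 ≤ k + 1 + 1 by omega)).trans hd
        omega
    have hker : 2 < Nat.card ψ.ker := by
      have h := ψ.ker.card_mul_index
      rw [Subgroup.index_ker] at h
      have h8' := hF.2
      rw [← h] at h8'
      norm_num at h8'
      by_contra hle
      have := Nat.mul_le_mul (not_lt.1 hle) hrange
      omega
    obtain ⟨f, hf, hf1, hfe'⟩ : ∃ f : F, f ∈ ψ.ker ∧ (f : C) ≠ 1 ∧ (f : C) ≠ e := by
      classical
      haveI := Fintype.ofFinite ψ.ker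
      rw [Nat.card_eq_fintype_card] at hker
      obtain ⟨a, b, c, hab, hac, hbc⟩ := Fintype.two_lt_card_iff.1 hker
      by_contra hno
      push Not at hno
      have key : ∀ u : ψ.ker, ((u : F) : C) = 1 ∨ ((u : F) : C) = e := fun u => by
        by_cases h1 : ((u : F) : C) = 1
        · exact Or.inl h1
        · exact Or.inr (hno u u.2 h1)
      have hinj : ∀ u v : ψ.ker, ((u : F) : C) = ((v : F) : C) → u = v :=
        fun u v h => Subtype.ext (Subtype.ext h)
      rcases key a with ha | ha <;> rcases key b with hb | hb <;> rcases key c with hc' | hc'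
      all_goals first
        | exact hab (hinj a b (ha.trans hb.symm))
        | exact hac (hinj a c (ha.trans hc'.symm))
        | exact hbc (hinj b c (hb.trans hc'.symm))
    have hmem : (f : C) ∈ Q := by
      refine mem_corePart_of_series hc R hec hee (hFR f.2) fun u hu => ?_
      have h1 : ψ f (QuotientGroup.mk' K ⟨u, hu⟩) = QuotientGroup.mk' K ⟨u, hu⟩ := by
        rw [MonoidHom.mem_ker.1 hf]; rfl
      have h2 : (QuotientGroup.mk' K (φ f ⟨u, hu⟩)) = QuotientGroup.mk' K ⟨u, hu⟩ := h1
      obtain ⟨w, hw, hw'⟩ := (QuotientGroup.mk'_eq_mk' K).1 h2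
      obtain ⟨k, rfl⟩ := mem_zpowers_iff.1 hw
      have h3 : (f : C) * u * (f : C)⁻¹ * e ^ k = u := by
        have := congrArg Subtype.val hw'
        rwa [Subgroup.coe_mul, hφ, SubgroupClass.coe_zpow] at this
      rcases Int.even_or_odd k with ⟨j, rfl⟩ | ⟨j, rfl⟩
      · left
        rwa [← two_mul, zpow_mul, zpow_ofNat, pow_two, hee, one_zpow, mul_one] at h3
      · right
        rw [zpow_add, zpow_mul, zpow_ofNat, pow_two, hee, one_zpow, one_mul, zpow_one] at h3
        calc (f : C) * u * (f : C)⁻¹ = (f : C) * u * (f : C)⁻¹ * e * e := by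
              rw [mul_assoc _ e e, hee, mul_one]
          _ = u * e := by rw [h3]
    rcases huniq _ hmem (ea_sq hF.1 f.2) with h | h
    · exact hf1 h
    · exact hfe' h
  -- otherwise `Aut Q` is a 2-group
  have haut : IsPGroup 2 (MulAut Q) := by
    have hu : ∀ u v : Q, orderOf u = 2 → orderOf v = 2 → u = v := fun u v hu hv => by
      rw [← Subgroup.orderOf_coe] at hu hv
      rcases huniq u u.2 (mul_self_of_orderOf_two hu) with h | h
      · rw [h, orderOf_one] at hu; omega
      rcases huniq v v.2 (mul_self_of_orderOf_two hv) with h' | h'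
      · rw [h', orderOf_one] at hv; omega
      exact Subtype.ext (h.trans h'.symm)
    rcases Fusion.cyclic_or_quaternion hQ2 hu with hcyc | ⟨k, -, ⟨i⟩⟩
    · exact isPGroup_mulAut_cyclic hQ2
    · have hk2 : 2 ≤ k := by
        haveI : NeZero (2 ^ k) := ⟨pow_ne_zero k two_ne_zero⟩
        rw [Nat.card_congr i.toEquiv, Nat.card_eq_fintype_card, QuaternionGroup.card] at h8
        by_contra hlt
        have := Nat.pow_le_pow_right two_pos (show k ≤ 1 by omega)
        omega
      exact (FusSys.isPGroup_mulAut_quaternion hk2).of_equiv (MulAut.congr i).symm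
  set f := QuotientGroup.mk' (pPrimeCore 2 C) with hf
  set B := pCore 2 (C ⧸ pPrimeCore 2 C) with hB
  have hinj : Function.Injective (f.comp Q.subtype) := by
    refine (injective_iff_map_eq_one _).2 fun q hq => ?_
    have hqO : (q : C) ∈ pPrimeCore 2 C := (QuotientGroup.eq_one_iff _).1 hq
    have hd : Disjoint Q (pPrimeCore 2 C) := Subgroup.disjoint_of_coprime_natCard (by
      obtain ⟨n, hn⟩ := IsPGroup.iff_card.1 hQ2
      rw [hn]
      exact Nat.Coprime.pow_left n (Core.coprime_card_pPrimeCore (p := 2)).symm)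
    exact Subtype.ext ((Subgroup.disjoint_def.1 hd) q.2 hqO)
  have hrange : (f.comp Q.subtype).range = B := by
    rw [MonoidHom.range_comp, Subgroup.range_subtype, hQ, hB, ← corePart_map R]
  let i : Q ≃* B := (MonoidHom.ofInjective hinj).trans (MulEquiv.subgroupCongr hrange)
  have hautB : IsPGroup 2 (MulAut B) := haut.of_equiv (MulAut.congr i)
  haveI hBn : B.Normal := hB ▸ inferInstance
  let ρ : C ⧸ pPrimeCore 2 C →* MulAut B := MulAut.conjNormal
  have hker : ρ.ker ≤ B := fun x hx => by
    refine hB ▸ Layer.isPConstrained_iff_selfCentral.1 hc (mem_centralizer_iff.2 fun v hv => ?_)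
    have h := congrArg Subtype.val (DFunLike.congr_fun (MonoidHom.mem_ker.1 hx) (⟨v, hv⟩ : B))
    rw [MulAut.conjNormal_apply, MulAut.one_apply, mul_inv_eq_iff_eq_mul] at h
    exact h.symm
  obtain ⟨a, ha⟩ := IsPGroup.iff_card.1 ((hB ▸ Core.pCore_isPGroup : IsPGroup 2 B).to_le hker)
  obtain ⟨b, hb⟩ := IsPGroup.iff_card.1 (hautB.to_subgroup ρ.range)
  refine IsPGroup.of_card (n := a + b) ?_
  rw [← ρ.ker.card_mul_index, Subgroup.index_ker, ha, hb, pow_add]

/-- Every element is a product of an element of the core and one of the Sylow subgroup. -/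
theorem exists_core_mul (hq : IsPGroup 2 (C ⧸ pPrimeCore 2 C)) (R : Sylow 2 C) (c : C) :
    ∃ o ∈ pPrimeCore 2 C, ∃ r ∈ (R : Subgroup C), c = o * r := by
  haveI : Fact (Nat.Prime 2) := ⟨Nat.prime_two⟩
  set f := QuotientGroup.mk' (pPrimeCore 2 C)
  set R' := R.mapSurjective (f := f) (QuotientGroup.mk'_surjective _) with hR'
  have htop : (R' : Subgroup (C ⧸ pPrimeCore 2 C)) = ⊤ :=
    (R'.3 (hq.to_subgroup ⊤) le_top).symm
  have hmem : f c ∈ (R' : Subgroup (C ⧸ pPrimeCore 2 C)) := htop.symm ▸ mem_top _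
  rw [hR', Sylow.coe_mapSurjective] at hmem
  obtain ⟨r, hr, he⟩ := hmem
  refine ⟨c * r⁻¹, ?_, r, hr, by group⟩
  rw [← QuotientGroup.eq_one_iff, ← QuotientGroup.mk'_apply, map_mul, map_inv, he, mul_inv_cancel]

end Cfsg.Agent.ZNGroup
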