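import Cfsg.Agent.ZNGroup.Basic
import Cfsg.Agent.FixFour.SetAct
import Mathlib.GroupTheory.SpecificGroups.Quaternion

/-!
Sylow 2-subgroups with a cyclic subgroup of index two.
-/

set_option autoImplicit false
set_option linter.unusedSectionVars false

namespace Cfsg.Agent.ZNGroup

open Subgroup Cfsg Dichotomy

variable {X : Type*} [Group X] [Finite X]

/-- `R` has a cyclic subgroup of index two. -/
def CycTwo (R : Subgroup X) : Prop := ∃ c ∈ R, (zpowers c).relIndex R = 2

theorem cycTwo_of_card {R : Subgroup X} (c : R)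
    (hc : Nat.card R = 2 * orderOf c) : CycTwo R := by
  refine ⟨c, c.2, ?_⟩
  rw [relIndex, show (zpowers (c : X)).subgroupOf R = zpowers c by
    rw [show zpowers (c : X) = (zpowers c).map R.subtype from (MonoidHom.map_zpowers R.subtype c).symm,
      subgroupOf, comap_map_eq_self_of_injective R.subtype_injective]]
  have h := card_mul_index (zpowers c)
  rw [Nat.card_zpowers, hc, mul_comm 2] at h
  exact Nat.eq_of_mul_eq_mul_left (orderOf_pos c) h

theorem cycTwo_of_dihedral {R : Subgroup X} {n : ℕ} (e : R ≃* DihedralGroup n) : CycTwo R := by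
  refine cycTwo_of_card (e.symm (DihedralGroup.r 1)) ?_
  rw [MulEquiv.orderOf_eq, DihedralGroup.orderOf_r_one, Nat.card_congr e.toEquiv,
    DihedralGroup.nat_card]

theorem cycTwo_of_quaternion {R : Subgroup X} {n : ℕ} (e : R ≃* QuaternionGroup n) : CycTwo R := by
  haveI : NeZero n := ⟨fun h => by
    subst h
    haveI : Finite (QuaternionGroup 0) := Finite.of_equiv R e.toEquiv
    haveI : Infinite (QuaternionGroup 0) := Infinite.of_injective
      (fun i : ℤ => (QuaternionGroup.a i : QuaternionGroup 0)) (fun a b hab => QuaternionGroup.a.inj hab)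
    exact not_finite (QuaternionGroup 0)⟩
  refine cycTwo_of_card (e.symm (QuaternionGroup.a 1)) ?_
  rw [MulEquiv.orderOf_eq, QuaternionGroup.orderOf_a_one, Nat.card_congr e.toEquiv,
    Nat.card_eq_fintype_card, QuaternionGroup.card]
  omega

theorem cycTwo_of_quasiDihedral {R : Subgroup X} (h : Cfsg.IsQuasiDihedral R) : CycTwo R := by
  obtain ⟨n, -, hc, x, -, hx, -, -⟩ := h
  exact cycTwo_of_card x (by rw [hc, hx, pow_succ, mul_comm])

theorem cycTwo_of_small (R : Subgroup X) (hR : IsPGroup 2 R) {y z : X} (hy : y ∈ R) (hz : z ∈ R)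
    (hy2 : orderOf y = 2) (hz2 : orderOf z = 2) (hne : y ≠ z) (hcom : y * z = z * y)
    (hC : Nat.card ↥(R ⊓ centralizer ({y} : Set X)) ≤ 4) : CycTwo R := by
  rcases FixFour.dihedral_or_semi R hR hy hz hy2 hz2 hne hcom hC with ⟨n, ⟨e⟩⟩ | h
  · exact cycTwo_of_dihedral e
  · exact cycTwo_of_quasiDihedral h

/-- A cyclic group has at most one involution. -/
theorem invol_unique {c x y : X} (hx : x ∈ zpowers c) (hy : y ∈ zpowers c) (hx2 : orderOf x = 2)
    (hy2 : orderOf y = 2) : x = y := by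
  classical
  have key : ∀ u : X, u ∈ zpowers c → orderOf u = 2 → u = c ^ (orderOf c / 2) := by
    intro u hu hu2
    obtain ⟨k, hk⟩ := mem_zpowers_iff_mem_range_orderOf.1 hu |> Finset.mem_image.1
    obtain ⟨hk, rfl⟩ := hk
    rw [Finset.mem_range] at hk
    have h2 := pow_orderOf_eq_one (c ^ k)
    rw [hu2, ← pow_mul] at h2
    obtain ⟨m, hm⟩ := orderOf_dvd_of_pow_eq_one h2
    have hk0 : k ≠ 0 := fun e => by rw [e, pow_zero, orderOf_one] at hu2; omega
    have hm1 : m = 1 := by
      rcases m with _ | _ | m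
      · omega
      · rfl
      · exfalso
        have : orderOf c * 2 ≤ orderOf c * (m + 1 + 1) := Nat.mul_le_mul_left _ (by omega)
        omega
    rw [hm1, mul_one] at hm
    congr 1
    omega
  rw [key x hx hx2, key y hy hy2]

/-- With a cyclic subgroup of index two all involutions are conjugate. -/
theorem all_conj_of_cycTwo (hn : NoTwo X) (R : Sylow 2 X) (hc : CycTwo (R : Subgroup X)) {z t : X}
    (hz : orderOf z = 2) (ht : orderOf t = 2) : ∃ g, g * z * g⁻¹ = t := by
  haveI : Fact (Nat.Prime 2) := ⟨Nat.prime_two⟩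
  obtain ⟨c, -, hidx⟩ := hc
  have key : ∀ u : X, orderOf u = 2 → ∃ g, g * u * g⁻¹ ∈ zpowers c := by
    intro u hu
    have hp : IsPGroup 2 ↥(zpowers u) :=
      IsPGroup.of_card (n := 1) (by rw [Nat.card_zpowers, hu, pow_one])
    obtain ⟨P, hP⟩ := hp.exists_le_sylow
    obtain ⟨g, hg⟩ := MulAction.exists_smul_eq X P R
    have hmem : g * u * g⁻¹ ∈ (R : Subgroup X) := by
      rw [← hg, Sylow.coe_subgroup_smul]
      exact ⟨u, hP (mem_zpowers u), rfl⟩
    obtain ⟨k, -, hk⟩ := exists_conj_mem hn R hidx hmem (by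
      rw [show g * u * g⁻¹ * (g * u * g⁻¹) = g * (u * u) * g⁻¹ by group,
        mul_self_of_orderOf_two hu]; group)
    exact ⟨k * g, by rwa [show k * g * u * (k * g)⁻¹ = k * (g * u * g⁻¹) * k⁻¹ by group]⟩
  obtain ⟨g, hg⟩ := key z hz
  obtain ⟨k, hk⟩ := key t ht
  have h := invol_unique hg hk
    (by rw [show g * z * g⁻¹ = MulAut.conj g z from rfl, MulEquiv.orderOf_eq, hz])
    (by rw [show k * t * k⁻¹ = MulAut.conj k t from rfl, MulEquiv.orderOf_eq, ht])
  exact ⟨k⁻¹ * g, by
    rw [show k⁻¹ * g * z * (k⁻¹ * g)⁻¹ = k⁻¹ * (g * z * g⁻¹) * k by group, h]; group⟩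

/-- With a cyclic subgroup of index two there is no elementary abelian subgroup of order eight. -/
theorem not_big_of_cycTwo {R F : Subgroup X} (hc : CycTwo R) (hF : Big F) : ¬ F ≤ R := by
  intro hFR
  obtain ⟨c, -, hidx⟩ := hc
  have h1 : Nat.card F ≤ Nat.card ↥(F ⊓ zpowers c) * 2 := by
    have h2 := card_mul_index ((zpowers c).subgroupOf F)
    have h3 : (zpowers c).relIndex F ≤ 2 := hidx ▸ relIndex_le_of_le_right hFR (by rw [hidx]; norm_num)
    rw [← inf_subgroupOf_right, inf_comm, Nat.card_congr (subgroupOfEquivOfLe inf_le_left).toEquiv,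
      inf_comm F, inf_subgroupOf_right] at h2
    rw [inf_comm F, ← h2]
    exact Nat.mul_le_mul_left _ h3
  have h4 : Nat.card ↥(F ⊓ zpowers c) ≤ 2 := by
    classical
    by_contra hlt
    haveI : Fintype ↥(F ⊓ zpowers c) := Fintype.ofFinite _
    rw [Nat.card_eq_fintype_card, not_le] at hlt
    obtain ⟨a, b, e, hab, hae, hbe⟩ := Fintype.two_lt_card_iff.1 hlt
    have ho : ∀ u : ↥(F ⊓ zpowers c), (u : X) ≠ 1 → orderOf (u : X) = 2 := fun u hu =>
      orderOf_two_of_sq (ea_sq hF.1 (mem_inf.1 u.2).1) hu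
    have hz := fun u v : ↥(F ⊓ zpowers c) => fun hu hv =>
      invol_unique (mem_inf.1 u.2).2 (mem_inf.1 v.2).2 (ho u hu) (ho v hv)
    by_cases ha : (a : X) = 1
    · have hb : (b : X) ≠ 1 := fun h => hab (Subtype.ext (ha.trans h.symm))
      have he : (e : X) ≠ 1 := fun h => hae (Subtype.ext (ha.trans h.symm))
      exact hbe (Subtype.ext (hz b e hb he))
    · by_cases hb : (b : X) = 1
      · have he : (e : X) ≠ 1 := fun h => hbe (Subtype.ext (hb.trans h.symm))
        exact hae (Subtype.ext (hz a e ha he))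
      · exact hab (Subtype.ext (hz a b ha hb))
  have := hF.2
  norm_num at this
  omega

end Cfsg.Agent.ZNGroup
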