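import Cfsg.Agent.ZNGroup.Basic
import Cfsg.Agent.Invol.NormalFour
import Cfsg.Agent.Fusion.PGroup

/-!
Four-subgroups, normal four-subgroups and the base of the core functor.
-/

set_option autoImplicit false
set_option linter.unusedSectionVars false

namespace Cfsg.Agent.ZNGroup

open Subgroup Cfsg Dichotomy

variable {X : Type*} [Group X] [Finite X]

/-- The four group on two commuting involutions. -/
def fourOf (a b : X) (ha : a * a = 1) (hb : b * b = 1) (hab : a * b = b * a) : Subgroup X where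
  carrier := {1, a, b, a * b}
  one_mem' := by simp
  inv_mem' := by
    rintro x (rfl | rfl | rfl | rfl)
    · simp
    · simp [inv_eq_of_mul_eq_one_right ha]
    · simp [inv_eq_of_mul_eq_one_right hb]
    · simp [mul_inv_rev, inv_eq_of_mul_eq_one_right ha, inv_eq_of_mul_eq_one_right hb, hab]
  mul_mem' := by
    have h1 : a * (a * b) = b := by rw [← mul_assoc, ha, one_mul]
    have h2 : b * (a * b) = a := by rw [hab, ← mul_assoc, hb, one_mul]
    have h3 : a * b * a = b := by rw [hab, mul_assoc, ha, mul_one]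
    have h4 : a * b * b = a := by rw [mul_assoc, hb, mul_one]
    have h5 : a * b * (a * b) = 1 := by rw [← mul_assoc, h3, hb]
    rintro x y (rfl | rfl | rfl | rfl) (rfl | rfl | rfl | rfl) <;>
      simp only [Set.mem_insert_iff, Set.mem_singleton_iff, one_mul, mul_one, ha, hb, h1, h2, h3,
        h4, h5, hab.symm, true_or, or_true]

theorem mem_fourOf {a b x : X} {ha : a * a = 1} {hb : b * b = 1} {hab : a * b = b * a} :
    x ∈ fourOf a b ha hb hab ↔ x = 1 ∨ x = a ∨ x = b ∨ x = a * b := Iff.rfl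

theorem fourOf_left {a b : X} {ha : a * a = 1} {hb : b * b = 1} {hab : a * b = b * a} :
    a ∈ fourOf a b ha hb hab := mem_fourOf.2 (.inr (.inl rfl))

theorem fourOf_right {a b : X} {ha : a * a = 1} {hb : b * b = 1} {hab : a * b = b * a} :
    b ∈ fourOf a b ha hb hab := mem_fourOf.2 (.inr (.inr (.inl rfl)))

theorem fourOf_le {a b : X} {ha : a * a = 1} {hb : b * b = 1} {hab : a * b = b * a}
    {S : Subgroup X} (h1 : a ∈ S) (h2 : b ∈ S) : fourOf a b ha hb hab ≤ S := by
  intro x hx
  rcases mem_fourOf.1 hx with rfl | rfl | rfl | rfl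
  exacts [one_mem S, h1, h2, mul_mem h1 h2]

theorem fourOf_sq {a b : X} {ha : a * a = 1} {hb : b * b = 1} {hab : a * b = b * a} :
    ∀ x ∈ fourOf a b ha hb hab, x * x = 1 := by
  intro x hx
  rcases mem_fourOf.1 hx with rfl | rfl | rfl | rfl
  · simp
  · exact ha
  · exact hb
  · calc a * b * (a * b) = a * (b * a) * b := by group
      _ = a * a * (b * b) := by rw [← hab]; group
      _ = 1 := by rw [ha, hb, one_mul]

theorem fourOf_card {a b : X} {ha : a * a = 1} {hb : b * b = 1} {hab : a * b = b * a}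
    (ha1 : a ≠ 1) (hb1 : b ≠ 1) (hne : a ≠ b) : Nat.card (fourOf a b ha hb hab) = 4 := by
  rw [← SetLike.coe_sort_coe, Nat.card_coe_set_eq,
    show (fourOf a b ha hb hab : Set X) = {1, a, b, a * b} from rfl]
  have h1 : a * b ≠ 1 := fun e => hne (by
    rw [← inv_eq_of_mul_eq_one_right e, inv_eq_of_mul_eq_one_right ha])
  rw [Set.ncard_insert_of_notMem, Set.ncard_insert_of_notMem, Set.ncard_pair]
  · exact fun e => ha1 (right_eq_mul.1 e)
  · simp only [Set.mem_insert_iff, Set.mem_singleton_iff, not_or]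
    exact ⟨hne, fun e => hb1 (left_eq_mul.1 e)⟩
  · simp only [Set.mem_insert_iff, Set.mem_singleton_iff, not_or]
    exact ⟨fun e => ha1 e.symm, fun e => hb1 e.symm, fun e => h1 e.symm⟩

/-- A commuting involution outside a four group, inside a group with no big elementary subgroup. -/
theorem mem_of_comm {R E : Subgroup X} (hr : ∀ F, Big F → ¬ F ≤ R) (hER : E ≤ R)
    (hsq : ∀ a ∈ E, a * a = 1) (h4 : Nat.card E = 4) {x : X} (hx : x ∈ R) (hx2 : x * x = 1)
    (hc : ∀ a ∈ E, a * x = x * a) : x ∈ E := by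
  by_contra hxE
  obtain ⟨F, hF, -, -, hle⟩ := big_insert hsq h4.ge hx2 hxE hc
  exact hr F hF (hle R hER hx)

/-- A base for the core functor: a normal four-subgroup through a given central involution. -/
theorem exists_base (S : Sylow 2 X) {z : X} (hz : z ∈ (S : Subgroup X)) (hz2 : orderOf z = 2)
    (hzc : ∀ s ∈ (S : Subgroup X), s * z = z * s) {F : Subgroup X} (hF : Big F)
    (hFS : F ≤ (S : Subgroup X)) : ∃ A0, Base S A0 z := by
  haveI : Fact (Nat.Prime 2) := ⟨Nat.prime_two⟩
  have hzz := mul_self_of_orderOf_two hz2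
  have hz1 : z ≠ 1 := fun e => by rw [e, orderOf_one] at hz2; omega
  obtain ⟨k, hk⟩ := IsPGroup.iff_card.1 (S.2.to_le hFS)
  obtain ⟨E, hE⟩ := Sylow.exists_subgroup_card_pow_prime 2 (G := F) (n := 3)
    (hk ▸ pow_dvd_pow 2 (by
      have := hF.2; rw [hk] at this; exact (Nat.pow_le_pow_iff_right (by norm_num)).1 this))
  let E' : Subgroup ↥(S : Subgroup X) := E.map (Subgroup.inclusion hFS)
  have hE' : Nat.card E' = 8 := by
    rw [card_map_of_injective (Subgroup.inclusion_injective hFS), hE]; norm_num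
  obtain ⟨U, hUn, hU4, hUsq⟩ := Invol.exists_normal_four S.2 E' hE' (by
    rintro _ ⟨e, -, rfl⟩
    exact Subtype.ext (ea_sq hF.1 e.2))
  by_cases hzU : (⟨z, hz⟩ : ↥(S : Subgroup X)) ∈ U
  · refine ⟨U.map (S : Subgroup X).subtype, map_subtype_le U, ?_, ?_, ?_, ⟨_, hzU, rfl⟩, hz1, hzc,
      F, hF, hFS⟩
    · rw [card_map_of_injective (S : Subgroup X).subtype_injective, hU4]
    · rintro _ ⟨u, hu, rfl⟩
      exact congrArg Subtype.val (hUsq u hu)
    · rintro s hs _ ⟨u, hu, rfl⟩
      exact ⟨⟨s, hs⟩ * u * ⟨s, hs⟩⁻¹, hUn.conj_mem u hu _, rfl⟩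
  · have hne : U ≠ ⊥ := fun h => by rw [h, card_bot] at hU4; omega
    obtain ⟨u, hu, hu1⟩ :=
      (bot_or_exists_ne_one _).resolve_left (Fusion.pGroup_inf_center_ne_bot S.2 U hne)
    obtain ⟨huU, huc⟩ := mem_inf.1 hu
    have hucc : ∀ s ∈ (S : Subgroup X), s * (u : X) = u * s := fun s hs =>
      congrArg Subtype.val (mem_center_iff.1 huc ⟨s, hs⟩)
    have hu2 : (u : X) * u = 1 := congrArg Subtype.val (hUsq u huU)
    have hne' : z ≠ (u : X) := fun e => hzU (by
      have : (⟨z, hz⟩ : ↥(S : Subgroup X)) = u := Subtype.ext e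
      rw [this]; exact huU)
    refine ⟨fourOf z u hzz hu2 (hzc u u.2).symm, fourOf_le hz u.2,
      fourOf_card hz1 (fun e => hu1 (Subtype.ext e)) hne', fourOf_sq, ?_, fourOf_left, hz1, hzc,
      F, hF, hFS⟩
    intro s hs a ha
    have hcen : s * a = a * s := by
      rcases mem_fourOf.1 ha with rfl | rfl | rfl | rfl
      · simp
      · exact hzc s hs
      · exact hucc s hs
      · rw [← mul_assoc, hzc s hs, mul_assoc, hucc s hs, mul_assoc]
    rw [hcen, mul_inv_cancel_right]
    exact ha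

/-- A 2-element normalising a Sylow 2-subgroup lies in it. -/
theorem mem_sylow_of_normalizes (R : Sylow 2 X) {y : X} (hy : IsPGroup 2 ↥(zpowers y))
    (hn : y ∈ normalizer ((R : Subgroup X) : Set X)) : y ∈ (R : Subgroup X) := by
  have hK : IsPGroup 2 ↥(zpowers y ⊔ (R : Subgroup X)) :=
    hy.to_sup_of_normal_right' R.2 (zpowers_le.2 hn)
  rw [← R.3 hK le_sup_right]
  exact mem_sup_left (mem_zpowers y)

theorem isPGroup_zpowers_conj {R : Subgroup X} (hR : IsPGroup 2 R) {v : X} (hv : v ∈ R) (g : X) :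
    IsPGroup 2 ↥(zpowers (g * v * g⁻¹)) := by
  rw [show g * v * g⁻¹ = (MulAut.conj g).toMonoidHom v from rfl, ← MonoidHom.map_zpowers]
  exact (hR.to_le (zpowers_le.2 hv)).map _

/-- An element with square different from one has a power with square of order two. -/
theorem exists_sq_invol {T : Subgroup X} (hT : IsPGroup 2 T) {v : X} (hv : v ∈ T) (h : v * v ≠ 1) :
    ∃ u ∈ T, orderOf (u * u) = 2 := by
  obtain ⟨a, ha⟩ := IsPGroup.iff_orderOf.1 hT ⟨v, hv⟩
  rw [Subgroup.orderOf_mk] at ha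
  rcases a with _ | _ | a
  · exact absurd (by rw [pow_zero, orderOf_eq_one_iff] at ha; rw [ha, one_mul]) h
  · exact absurd (mul_self_of_orderOf_two ha) h
  · refine ⟨v ^ 2 ^ a, pow_mem hv _, ?_⟩
    rw [← pow_add, ← two_mul, ← pow_succ',
      orderOf_pow_of_dvd (by positivity) (ha ▸ pow_dvd_pow 2 (by omega)), ha,
      Nat.pow_div (by omega) (by norm_num), show a + 1 + 1 - (a + 1) = 1 by omega, pow_one]

end Cfsg.Agent.ZNGroup
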