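import Cfsg.Agent.ZNGroup.Connect
import Cfsg.Agent.ZNGroup.CorePart
import Cfsg.Agent.Invol.StronglyEmbedded

/-!
All involutions deep in a Sylow 2-subgroup: either a strongly embedded subgroup or trivial cores.
-/

set_option autoImplicit false
set_option linter.unusedSectionVars false

namespace Cfsg.Agent.ZNGroup

open Subgroup Cfsg Dichotomy Signalizer

universe u

variable {X : Type u} [Group X] [Finite X]

theorem conj_into (R : Sylow 2 X) {t : X} (ht : orderOf t = 2) :
    ∃ g, g * t * g⁻¹ ∈ (R : Subgroup X) ∧ orderOf (g * t * g⁻¹) = 2 := by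
  haveI : Fact (Nat.Prime 2) := ⟨Nat.prime_two⟩
  have hp : IsPGroup 2 ↥(zpowers t) :=
    IsPGroup.of_card (n := 1) (by rw [Nat.card_zpowers, ht, pow_one])
  obtain ⟨P, hP⟩ := hp.exists_le_sylow
  obtain ⟨g, hg⟩ := MulAction.exists_smul_eq X P R
  refine ⟨g, ?_, by rw [show g * t * g⁻¹ = MulAut.conj g t from rfl, MulEquiv.orderOf_eq, ht]⟩
  rw [← hg, Sylow.coe_subgroup_smul]
  exact ⟨t, hP (mem_zpowers t), rfl⟩

theorem ctx_of_deep (h : ZC X) (R : Sylow 2 X)
    (hdeep : ∀ x ∈ (R : Subgroup X), orderOf x = 2 → Deep (R : Subgroup X) x) : Ctx X := by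
  refine ⟨h.core, fun t ht => h.cons t ht, fun t ht hrk => ?_⟩
  obtain ⟨g, hg, hg2⟩ := conj_into R ht
  obtain ⟨F, hF, -, hFc⟩ := hdeep _ hg hg2
  set F' := F.map (MulAut.conj g⁻¹).toMonoidHom with hF'
  have hle : F' ≤ centralizer ({t} : Set X) := by
    rintro _ ⟨f, hf, rfl⟩
    refine mem_centralizer_singleton_iff.2 ?_
    simp only [MulEquiv.coe_toMonoidHom, MulAut.conj_apply, inv_inv]
    calc g⁻¹ * f * g * t = g⁻¹ * (f * (g * t * g⁻¹)) * g := by group
      _ = t * (g⁻¹ * f * g) := by rw [hFc f hf]; group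
  have hb := big_conj hF g⁻¹
  have h1 := hrk (F'.subgroupOf (centralizer ({t} : Set X)))
    ⟨⟨fun a b => Subtype.ext (Subtype.ext (Coprime.ea_comm hb.1 a.2 b.2))⟩⟩
    fun a ha => Subtype.ext (hb.1.2 _ ha)
  rw [Nat.card_congr (subgroupOfEquivOfLe hle).toEquiv] at h1
  have h2 := hb.2.trans h1
  norm_num at h2

/-- Either a strongly embedded subgroup or all cores are trivial. -/
theorem functor (h : ZC X) (R : Sylow 2 X) {z : X} (hz : z ∈ (R : Subgroup X)) (hz2 : orderOf z = 2)
    (hzc : ∀ r ∈ (R : Subgroup X), r * z = z * r) {F₀ : Subgroup X} (hF₀ : Big F₀)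
    (hF₀R : F₀ ≤ (R : Subgroup X))
    (hdeep : ∀ x ∈ (R : Subgroup X), orderOf x = 2 → Deep (R : Subgroup X) x) :
    (∃ M : Subgroup X, Cfsg.IsStronglyEmbedded M) ∨
      ∀ t : X, orderOf t = 2 → Cfsg.oddCore ↥(centralizer ({t} : Set X)) = ⊥ := by
  haveI : Fact (Nat.Prime 2) := ⟨Nat.prime_two⟩
  have hctx := ctx_of_deep h R hdeep
  obtain ⟨A0, hb⟩ := exists_base R hz hz2 hzc hF₀ hF₀R
  have hzz := mul_self_of_orderOf_two hz2
  -- four-subgroups of `R`
  have hfour : ∀ E : Subgroup X, E ≤ (R : Subgroup X) → (∀ a ∈ E, a * a = 1) → 4 ≤ Nat.card E →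
      cores E = cores A0 := by
    intro E hER hsq h4
    by_cases hzE : z ∈ E
    · by_cases hbig : 2 ^ 3 ≤ Nat.card E
      · exact hb.same_big hctx ⟨ea_of_sq hsq, hbig⟩ hER
      obtain ⟨e, he, he1, hez⟩ : ∃ e ∈ E, e ≠ 1 ∧ e ≠ z := by
        by_contra hc
        push Not at hc
        have hsub : (E : Set X) ⊆ {1, z} := fun y hy => by
          by_cases h1 : y = 1
          · exact Or.inl h1
          · exact Or.inr (hc y hy h1)
        have := Set.ncard_le_ncard hsub (Set.toFinite _)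
        rw [← Nat.card_coe_set_eq, Set.ncard_pair hb.ne.symm] at this
        change Nat.card E ≤ 2 at this
        omega
      obtain ⟨F, hF, hFR, hFc⟩ := hdeep e (hER he) (orderOf_two_of_sq (hsq e he) he1)
      have hE4 : Nat.card E = 4 := by
        obtain ⟨k, hk⟩ := IsPGroup.iff_card.1 (R.2.to_le hER)
        rw [hk] at h4 hbig ⊢
        have h3 : k < 3 := by
          by_contra hc; exact hbig (Nat.pow_le_pow_right two_pos (not_lt.1 hc))
        interval_cases k <;> omega
      have heq : fourOf z e hzz (hsq e he) (hzc e (hER he)).symm = E :=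
        Subgroup.eq_of_le_of_card_ge (fourOf_le hzE he)
          (by rw [hE4, fourOf_card hb.ne he1 (Ne.symm hez)])
      refine hb.same hctx (ea_of_sq hsq) h4 hF hFR fun x hx y hy => ?_
      rw [← heq] at hx
      rcases mem_fourOf.1 hx with rfl | rfl | rfl | rfl
      · simp
      · exact (hzc y (hFR hy)).symm
      · exact (hFc y hy).symm
      · rw [mul_assoc, ← hFc y hy, ← mul_assoc, ← hzc y (hFR hy), mul_assoc]
    · obtain ⟨F, hF, hEF, -, hle⟩ := big_insert hsq h4 hzz hzE (fun a ha => hzc a (hER ha))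
      exact hb.same hctx (ea_of_sq hsq) h4 hF (hle _ hER hz)
        fun x hx y hy => Coprime.ea_comm hF.1 (hEF hx) hy
  have hW : ∀ x ∈ (R : Subgroup X), orderOf x = 2 → theta x ≤ cores A0 := by
    intro x hx hx2
    obtain ⟨F, hF, hFR, hFc⟩ := hdeep x hx hx2
    rw [← hb.same_big hctx hF hFR]
    refine Coprime.ea_le_of_centralizers_le hF.1 (le_trans (by norm_num) hF.2) (theta_not_dvd _)
      (le_normalizer_iff.mpr fun f hf y hy => theta_norm (hFc f hf) hy) fun f hf hf1 => ?_
    exact (h.balance hx2 (orderOf_two_of_sq (ea_sq hF.1 hf) hf1) (hFc f hf).symm).trans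
      (theta_le_cores hf hf1)
  by_cases hW1 : cores A0 = ⊥
  · right
    intro t ht
    obtain ⟨g, hg, hg2⟩ := conj_into R ht
    refine core_eq_bot_of_theta ?_
    have h1 : theta (g * t * g⁻¹) = ⊥ := le_bot_iff.1 ((hW _ hg hg2).trans hW1.le)
    rw [theta_conj] at h1
    exact (map_eq_bot_iff_of_injective _ (MulAut.conj g).injective).1 h1
  left
  set M := stab A0 with hM
  have hWM : cores A0 ≤ M := le_normalizer
  -- four-subgroups of conjugates of `R` under `M`
  have hfour' : ∀ g ∈ M, ∀ E : Subgroup X, E ≤ ((g • R : Sylow 2 X) : Subgroup X) →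
      (∀ a ∈ E, a * a = 1) → 4 ≤ Nat.card E → cores E = cores A0 := by
    intro g hg E hE hsq h4
    set E' := E.map (MulAut.conj g⁻¹).toMonoidHom with hE'
    have hE'R : E' ≤ (R : Subgroup X) := by
      rintro _ ⟨x, hx, rfl⟩
      have := hE hx
      rw [Sylow.coe_subgroup_smul, Subgroup.mem_pointwise_smul_iff_inv_smul_mem, ← map_inv] at this
      exact this
    have h1 := hfour E' hE'R (by rintro _ ⟨x, hx, rfl⟩; rw [← map_mul, hsq x hx, map_one])
      (by rw [hE', card_map_of_injective (MulAut.conj g⁻¹).injective]; exact h4)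
    have h2 : E = E'.map (MulAut.conj g).toMonoidHom := by
      rw [hE', map_conj_mul, mul_inv_cancel, map_conj_one]
    rw [h2, cores_conj, h1]
    exact map_conj_eq_of_mem_normalizer hg
  -- centralisers of involutions
  have hcent : ∀ x ∈ (R : Subgroup X), orderOf x = 2 → centralizer ({x} : Set X) ≤ M := by
    intro x hx hx2
    have hxx := mul_self_of_orderOf_two hx2
    have hx1 : x ≠ 1 := fun e => by rw [e, orderOf_one] at hx2; omega
    obtain ⟨F, hF, hFR, hFx⟩ : ∃ F, Big F ∧ F ≤ (R : Subgroup X) ∧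
        (∀ f ∈ F, f * x = x * f) := hdeep x hx hx2
    set C := centralizer ({x} : Set X) with hC
    have hFC : F ≤ C := fun f hf => mem_centralizer_singleton_iff.2 (hFx f hf)
    obtain ⟨P, hP⟩ := exists_sylow_centralizer (t := x) (R.2.to_le hFR) hFC
    set P' := (P : Subgroup C).map C.subtype with hP'
    obtain ⟨R', hR'⟩ := (P.2.map C.subtype).exists_le_sylow
    obtain ⟨g, hg⟩ := MulAction.exists_smul_eq X R R'
    subst hg
    have hgM : g ∈ M := hb.mem_stab_of_big hctx hF (hb.same_big hctx hF hFR) (hP.trans hR')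
    have hPM : P' ≤ M := fun y hy => by
      have := hR' hy
      rw [Sylow.coe_subgroup_smul] at this
      obtain ⟨r, hr, rfl⟩ := this
      exact mul_mem (mul_mem hgM (hb.S_le hr)) (inv_mem hgM)
    intro c hc
    set c' : C := ⟨c, hc⟩
    have hOM : ∀ o : C, o ∈ pPrimeCore 2 C → (o : X) ∈ M := fun o ho =>
      hWM (hW x hx hx2 ⟨o, ho, rfl⟩)
    set xC : C := ⟨x, mem_centralizer_singleton_iff.2 rfl⟩ with hxC
    have hxC2 : orderOf xC = 2 := by rw [← Subgroup.orderOf_coe]; exact hx2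
    have hxCc : xC ∈ center C := mem_center_iff.2 fun y =>
      Subtype.ext (mem_centralizer_singleton_iff.1 y.2)
    by_cases huniq : ∀ q ∈ corePart P, q * q = 1 → q = 1 ∨ q = xC
    · have hbig : Big (F.subgroupOf C) :=
        ⟨ea_of_sq fun a ha => Subtype.ext (ea_sq hF.1 ha),
          by rw [Nat.card_congr (subgroupOfEquivOfLe hFC).toEquiv]; exact hF.2⟩
      have hFP : F.subgroupOf C ≤ (P : Subgroup C) := fun y hy => by
        obtain ⟨w, hw, hwy⟩ := hP hy
        rwa [← Subtype.ext hwy]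
      obtain ⟨o, ho, r, hr, he⟩ := exists_core_mul
        (isPGroup_quotient (h.cons x hx2) P hxC2 hxCc hbig hFP huniq) P c'
      rw [show c = (o : X) * (r : X) from congrArg Subtype.val he]
      exact mul_mem (hOM o ho) (hPM ⟨r, hr, rfl⟩)
    · push Not at huniq
      obtain ⟨q, hq, hq2, hq1, hqx⟩ := huniq
      obtain ⟨o, ho, n, hn, he⟩ := exists_mul_normalizer P c'
      rw [show c = (o : X) * (n : X) from congrArg Subtype.val he]
      refine mul_mem (hOM o ho) ?_
      have hq2' : (q : X) * q = 1 := congrArg Subtype.val hq2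
      have hqx' : (q : X) * x = x * q := mem_centralizer_singleton_iff.1 q.2
      set E := fourOf x (q : X) hxx hq2' hqx'.symm with hE
      have hE4 : Nat.card E = 4 :=
        fourOf_card hx1 (fun e => hq1 (Subtype.ext e)) (fun e => hqx (Subtype.ext e.symm))
      have hxP : x ∈ P' := by
        have hxp : xC ∈ (P : Subgroup C) := by
          refine mem_sylow_of_normalizes P ?_ (center_le_normalizer _ hxCc)
          exact IsPGroup.of_card (n := 1) (by rw [Nat.card_zpowers, hxC2, pow_one])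
        exact ⟨xC, hxp, rfl⟩
      have hqn : n * q * n⁻¹ ∈ corePart P := (mem_normalizer_iff.1 hn q).1 hq
      have hEP : E ≤ P' := fourOf_le hxP ⟨q, hq.1, rfl⟩
      set En := E.map (MulAut.conj (n : X)).toMonoidHom with hEn
      have hnx : (n : X) * x * (n : X)⁻¹ = x := by
        rw [mem_centralizer_singleton_iff.1 n.2, mul_inv_cancel_right]
      have hEnP : En ≤ P' := by
        rintro _ ⟨y, hy, rfl⟩
        simp only [MulEquiv.coe_toMonoidHom, MulAut.conj_apply]
        rcases mem_fourOf.1 hy with rfl | rfl | rfl | rfl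
        · rw [mul_one, mul_inv_cancel]; exact one_mem _
        · rw [hnx]; exact hxP
        · exact ⟨n * q * n⁻¹, hqn.1, rfl⟩
        · rw [show (n : X) * (x * (q : X)) * (n : X)⁻¹ =
            (n : X) * x * (n : X)⁻¹ * ((n : X) * (q : X) * (n : X)⁻¹) by group, hnx]
          exact mul_mem hxP ⟨n * q * n⁻¹, hqn.1, rfl⟩
      have h1 := hfour' g hgM E (hEP.trans hR') fourOf_sq hE4.ge
      have h2 := hfour' g hgM En (hEnP.trans hR')
        (by rintro _ ⟨y, hy, rfl⟩; rw [← map_mul, fourOf_sq y hy, map_one])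
        (by rw [hEn, card_map_of_injective (MulAut.conj (n : X)).injective, hE4])
      refine mem_normalizer_of_map_eq ?_
      conv_rhs => rw [← h2, hEn, cores_conj, h1]
  have hMtop : M ≠ ⊤ := fun htop => hW1 (by
    haveI : (cores A0).Normal := normalizer_eq_top_iff.1 htop
    have hc : (Nat.card (cores A0)).Coprime 2 := Nat.coprime_two_right.2 (hb.W_odd hctx)
    exact le_bot_iff.1 ((Core.le_pPrimeCore hc).trans h.core.le))
  refine ⟨M, Invol.se_of_normalizers hMtop (R.subtype hb.S_le) ?_ fun Y hY hYne => ?_⟩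
  · intro h0
    have : (⟨z, hb.S_le hz⟩ : M) ∈ ((R.subtype hb.S_le : Sylow 2 M) : Subgroup M) := hz
    rw [h0, mem_bot] at this
    exact hb.ne (congrArg Subtype.val this)
  set Y' := Y.map M.subtype with hY'
  have hY'R : Y' ≤ (R : Subgroup X) := by
    rintro _ ⟨y, hy, rfl⟩
    exact hY hy
  have hY'ne : Y' ≠ ⊥ := fun e => hYne ((map_eq_bot_iff_of_injective Y M.subtype_injective).1 e)
  -- the central involutions of `Y'`
  let E : Subgroup X :=
    { carrier := {y | y ∈ Y' ∧ y * y = 1 ∧ ∀ w ∈ Y', w * y = y * w}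
      one_mem' := ⟨one_mem _, one_mul 1, fun w _ => by rw [one_mul, mul_one]⟩
      mul_mem' := by
        rintro a b ⟨ha, ha2, hac⟩ ⟨hb', hb2, hbc⟩
        refine ⟨mul_mem ha hb', ?_, fun w hw => by
          rw [← mul_assoc, hac w hw, mul_assoc, hbc w hw, mul_assoc]⟩
        rw [mul_assoc, ← mul_assoc b, hac b hb', mul_assoc a b b, hb2, mul_one, ha2]
      inv_mem' := by
        rintro a ⟨ha, ha2, hac⟩
        rw [inv_eq_of_mul_eq_one_right ha2]
        exact ⟨ha, ha2, hac⟩ }
  have hEn : ∀ n ∈ normalizer (Y' : Set X), E.map (MulAut.conj n).toMonoidHom ≤ E := by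
    rintro n hn _ ⟨y, ⟨hy, hy2, hyc⟩, rfl⟩
    simp only [MulEquiv.coe_toMonoidHom, MulAut.conj_apply]
    refine ⟨(mem_normalizer_iff.1 hn y).1 hy, ?_, fun w hw => ?_⟩
    · rw [show n * y * n⁻¹ * (n * y * n⁻¹) = n * (y * y) * n⁻¹ by group, hy2]; group
    · have := hyc _ ((mem_normalizer_iff''.1 hn w).1 hw)
      calc w * (n * y * n⁻¹) = n * (n⁻¹ * w * n * y) * n⁻¹ := by group
        _ = n * y * n⁻¹ * w := by rw [this]; group
  obtain ⟨e, he, he1⟩ : ∃ e ∈ E, e ≠ 1 := by
    obtain ⟨y, hy, hy1⟩ := (bot_or_exists_ne_one _).resolve_left hY'ne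
    have hp : IsPGroup 2 Y' := R.2.to_le hY'R
    haveI : Nontrivial Y' := ⟨⟨⟨y, hy⟩, 1, fun e => hy1 (congrArg Subtype.val e)⟩⟩
    haveI := hp.center_nontrivial
    obtain ⟨k, hk0, hk⟩ := (hp.to_subgroup (center Y')).nontrivial_iff_card.1 inferInstance
    obtain ⟨w, hw⟩ := exists_prime_orderOf_dvd_card' (G := center Y') 2 (hk ▸ dvd_pow_self 2 hk0.ne')
    rw [← Subgroup.orderOf_coe, ← Subgroup.orderOf_coe] at hw
    refine ⟨((w : Y') : X), ⟨(w : Y').2, mul_self_of_orderOf_two hw, fun v hv =>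
      congrArg Subtype.val (mem_center_iff.1 w.2 ⟨v, hv⟩)⟩, fun e => by rw [e, orderOf_one] at hw; omega⟩
  intro n hn
  by_cases h4 : 4 ≤ Nat.card E
  · refine mem_stab_of_vertex (hfour E (fun y hy => hY'R hy.1) (fun y hy => hy.2.1) h4) ?_
    exact mem_normalizer_fintype fun y hy => hEn n hn ⟨y, hy, rfl⟩
  · refine hcent e (hY'R he.1) (orderOf_two_of_sq he.2.1 he1) (mem_centralizer_singleton_iff.2 ?_)
    have hne : n * e * n⁻¹ ∈ E := hEn n hn ⟨e, he, rfl⟩
    have hE2 : Nat.card E = 2 := by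
      obtain ⟨k, hk⟩ := IsPGroup.iff_card.1 (R.2.to_le (fun y hy => hY'R hy.1) : IsPGroup 2 E)
      rcases k with _ | _ | k
      · exfalso
        rw [pow_zero] at hk
        have := Subgroup.card_eq_one.1 hk
        exact he1 (mem_bot.1 (this ▸ he))
      · rw [hk]; norm_num
      · exfalso
        have := Nat.pow_le_pow_right two_pos (show 2 ≤ k + 1 + 1 by omega)
        omega
    obtain ⟨w, -, hw⟩ := (Nat.card_eq_two_iff' (1 : E)).1 hE2
    have h1 := hw ⟨e, he⟩ fun h => he1 (congrArg Subtype.val h)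
    have h2 := hw ⟨_, hne⟩ fun h => he1 (conj_eq_one_iff.1 (congrArg Subtype.val h))
    exact mul_inv_eq_iff_eq_mul.1 (congrArg Subtype.val (h2.trans h1.symm))

end Cfsg.Agent.ZNGroup
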