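import Cfsg.Agent.ZNGroup.Basic
import Cfsg.Agent.Invol.StronglyEmbedded

/-!
One class of involutions whose centralisers normalise a Sylow 2-subgroup.
-/

set_option autoImplicit false
set_option linter.unusedSectionVars false

namespace Cfsg.Agent.ZNGroup

open Subgroup Cfsg Dichotomy

variable {X : Type*} [Group X] [Finite X]

/-- The core of the centraliser of such a central involution centralises the Sylow subgroup. -/
theorem theta_comm {R : Sylow 2 X} {z : X} (hzc : ∀ r ∈ (R : Subgroup X), r * z = z * r)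
    (hN : centralizer ({z} : Set X) ≤ normalizer ((R : Subgroup X) : Set X)) {x r : X}
    (hx : x ∈ theta z) (hr : r ∈ (R : Subgroup X)) : x * r = r * x := by
  have h1 : x * r * x⁻¹ * r⁻¹ ∈ (R : Subgroup X) :=
    mul_mem ((mem_normalizer_iff.1 (hN (theta_le z hx)) r).1 hr) (inv_mem hr)
  have h2 : x * r * x⁻¹ * r⁻¹ ∈ theta z := by
    rw [show x * r * x⁻¹ * r⁻¹ = x * (r * x⁻¹ * r⁻¹) by group]
    exact mul_mem hx (theta_norm (hzc r hr) (inv_mem hx))
  have h3 : x * r * x⁻¹ * r⁻¹ = 1 := by
    have hcop : Nat.Coprime (Nat.card (R : Subgroup X)) (Nat.card (theta z)) := by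
      obtain ⟨k, hk⟩ := IsPGroup.iff_card.1 R.2
      rw [hk]
      exact Nat.Coprime.pow_left k (Nat.coprime_two_left.2 (theta_odd z))
    have := (Subgroup.disjoint_of_coprime_natCard hcop).le_bot (mem_inf.2 ⟨h1, h2⟩)
    exact this
  rw [mul_inv_eq_one, mul_inv_eq_iff_eq_mul] at h3
  exact h3

/-- With one class of involutions either there is a strongly embedded subgroup or all cores are
trivial. -/
theorem one_class (h : ZC X) (R : Sylow 2 X) {z : X} (hz : z ∈ (R : Subgroup X))
    (hz2 : orderOf z = 2) (hzc : ∀ r ∈ (R : Subgroup X), r * z = z * r)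
    (hN : centralizer ({z} : Set X) ≤ normalizer ((R : Subgroup X) : Set X))
    (hall : ∀ t : X, orderOf t = 2 → ∃ g, g * z * g⁻¹ = t) :
    (∃ M : Subgroup X, Cfsg.IsStronglyEmbedded M) ∨
      ∀ t : X, orderOf t = 2 → Cfsg.oddCore ↥(centralizer ({t} : Set X)) = ⊥ := by
  haveI : Fact (Nat.Prime 2) := ⟨Nat.prime_two⟩
  by_cases hX : theta z = ⊥
  · right
    intro t ht
    obtain ⟨g, rfl⟩ := hall t ht
    refine core_eq_bot_of_theta ?_
    rw [theta_conj, hX, Subgroup.map_bot]
  left
  -- the core is the same for every involution of `R`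
  have hR : ∀ t ∈ (R : Subgroup X), orderOf t = 2 → theta t = theta z := by
    intro t ht ht2
    obtain ⟨g, rfl⟩ := hall t ht2
    have hcomm : g * z * g⁻¹ * z = z * (g * z * g⁻¹) := hzc _ ht
    have hzt : g⁻¹ * z * g * z = z * (g⁻¹ * z * g) := by
      calc g⁻¹ * z * g * z = g⁻¹ * (z * (g * z * g⁻¹)) * g := by group
        _ = g⁻¹ * (g * z * g⁻¹ * z) * g := by rw [hcomm]
        _ = z * (g⁻¹ * z * g) := by group
    have hz' : g⁻¹ * z * g ∈ (R : Subgroup X) := by
      have hzC : g⁻¹ * z * g ∈ centralizer ({z} : Set X) := mem_centralizer_singleton_iff.2 hzt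
      -- a 2-element normalising a Sylow 2-subgroup lies in it
      have hp : IsPGroup 2 ↥(zpowers (g⁻¹ * z * g)) := by
        refine IsPGroup.of_card (n := 1) ?_
        rw [Nat.card_zpowers, show g⁻¹ * z * g = MulAut.conj g⁻¹ z by simp, MulEquiv.orderOf_eq,
          hz2, pow_one]
      have hle : zpowers (g⁻¹ * z * g) ≤ normalizer ((R : Subgroup X) : Set X) :=
        zpowers_le.2 (hN hzC)
      have hK : IsPGroup 2 ↥(zpowers (g⁻¹ * z * g) ⊔ (R : Subgroup X)) :=
        hp.to_sup_of_normal_right' R.2 hle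
      have := R.3 hK le_sup_right
      rw [← this]
      exact mem_sup_left (mem_zpowers _)
    have hsub : theta (g * z * g⁻¹) ≤ centralizer ({z} : Set X) := by
      rw [theta_conj]
      rintro _ ⟨y, hy, rfl⟩
      refine mem_centralizer_singleton_iff.2 ?_
      have := theta_comm hzc hN hy hz'
      simp only [MulEquiv.coe_toMonoidHom, MulAut.conj_apply]
      calc g * y * g⁻¹ * z = g * (y * (g⁻¹ * z * g)) * g⁻¹ := by group
        _ = z * (g * y * g⁻¹) := by rw [this]; group
    refine Subgroup.eq_of_le_of_card_ge (fun y hy => h.balance ht2 hz2 hcomm ⟨hy, hsub hy⟩) ?_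
    rw [theta_conj, card_map_of_injective (MulEquiv.injective _)]
  set M := normalizer ((theta z : Subgroup X) : Set X) with hM
  have hRM : (R : Subgroup X) ≤ M := fun r hr => by
    refine centralizer_le_normalizer _ (mem_centralizer_iff.2 fun x hx => ?_)
    exact theta_comm hzc hN hx hr
  have hMtop : M ≠ ⊤ := fun htop => hX (by
    haveI : (theta z).Normal := normalizer_eq_top_iff.1 htop
    have hc : (Nat.card (theta z)).Coprime 2 := Nat.coprime_two_right.2 (theta_odd z)
    exact le_bot_iff.1 ((Core.le_pPrimeCore hc).trans h.core.le))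
  have hMmem : ∀ t ∈ M, orderOf t = 2 → theta t = theta z := by
    intro t ht ht2
    have hp : IsPGroup 2 ↥((zpowers t).subgroupOf M) :=
      (IsPGroup.of_card (n := 1) (by rw [Nat.card_zpowers, ht2, pow_one])).comap_subtype
    obtain ⟨Q, hQ⟩ := hp.exists_le_sylow
    obtain ⟨m, hm⟩ := MulAction.exists_smul_eq M Q (R.subtype hRM)
    have htR : (m : X) * t * (m : X)⁻¹ ∈ (R : Subgroup X) := by
      have h1 : (⟨t, ht⟩ : M) ∈ (Q : Subgroup M) :=
        hQ (mem_subgroupOf.2 (mem_zpowers t))
      have h2 : MulAut.conj m (⟨t, ht⟩ : M) ∈ ((R.subtype hRM : Sylow 2 M) : Subgroup M) := by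
        rw [← hm, Sylow.coe_subgroup_smul]
        exact ⟨⟨t, ht⟩, h1, rfl⟩
      exact h2
    have h1 := hR _ htR (by rw [show (m : X) * t * (m : X)⁻¹ = MulAut.conj (m : X) t from rfl,
      MulEquiv.orderOf_eq, ht2])
    rw [theta_conj] at h1
    have hfix := map_conj_eq_of_mem_normalizer (E := theta z) m.2
    rw [← hfix] at h1
    exact Subgroup.map_injective (MulEquiv.injective (MulAut.conj (m : X))) h1
  refine ⟨M, (Invol.se_iff M).2 ⟨hMtop, ?_, fun t g ht htM htg => ?_⟩⟩
  · rw [even_iff_two_dvd]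
    rw [← hz2, ← Subgroup.orderOf_mk z (hRM hz)]
    exact orderOf_dvd_natCard _
  · have h1 := hMmem t htM ht
    have h2 := hMmem _ htg (by rw [show g⁻¹ * t * g = MulAut.conj g⁻¹ t by simp, MulEquiv.orderOf_eq, ht])
    rw [show g⁻¹ * t * g = g⁻¹ * t * g⁻¹⁻¹ by rw [inv_inv], theta_conj, h1] at h2
    exact inv_mem_iff.1 (mem_normalizer_of_map_eq h2)

end Cfsg.Agent.ZNGroup
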