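import Cfsg.Agent.ZNGroup.Functor
import Cfsg.Agent.ZNGroup.OneClass
import Cfsg.Agent.S0505
import Cfsg.Agent.Fusion.Residual

/-!
The subgroup generated by the elements of odd order: cores, and the reduction to characteristic 2.
-/

set_option autoImplicit false
set_option linter.unusedSectionVars false

namespace Cfsg.Agent.ZNGroup

open Subgroup Cfsg Dichotomy

universe u

variable {G : Type u} [Group G] [Finite G]

/-- The centraliser of an element of a subgroup, inside the ambient centraliser. -/
noncomputable def centEquiv (N : Subgroup G) (t : N) :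
    ↥(centralizer ({t} : Set N)) ≃* ↥(N.subgroupOf (centralizer ({(t : G)} : Set G))) where
  toFun x := ⟨⟨((x : N) : G), mem_centralizer_singleton_iff.2
    (congrArg Subtype.val (mem_centralizer_singleton_iff.1 x.2))⟩, (x : N).2⟩
  invFun x := ⟨⟨((x : ↥(centralizer ({(t : G)} : Set G))) : G), x.2⟩,
    mem_centralizer_singleton_iff.2 (Subtype.ext (mem_centralizer_singleton_iff.1
      (x : ↥(centralizer ({(t : G)} : Set G))).2))⟩
  left_inv _ := rfl
  right_inv _ := rfl
  map_mul' _ _ := rfl

theorem solvable_cent_sub (hsol : ∀ t : G, orderOf t = 2 → Group.IsSolvable ↥(centralizer ({t} : Set G)))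
    (N : Subgroup G) (t : N) (ht : orderOf t = 2) : Group.IsSolvable ↥(centralizer ({t} : Set N)) := by
  haveI := hsol (t : G) (by rwa [Subgroup.orderOf_coe])
  exact solvable_of_solvable_injective
    (f := (N.subgroupOf (centralizer ({(t : G)} : Set G))).subtype.comp (centEquiv N t).toMonoidHom)
    ((Subgroup.subtype_injective _).comp (centEquiv N t).injective)

theorem core_cent_sub (hcore : ∀ t : G, orderOf t = 2 → Cfsg.oddCore ↥(centralizer ({t} : Set G)) = ⊥)
    (N : Subgroup G) [N.Normal] (t : N) (ht : orderOf t = 2) :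
    Cfsg.oddCore ↥(centralizer ({t} : Set N)) = ⊥ := by
  have h := Core.map_pPrimeCore_normal (p := 2) (N.subgroupOf (centralizer ({(t : G)} : Set G)))
  have hc := hcore (t : G) (by rwa [Subgroup.orderOf_coe])
  rw [show pPrimeCore 2 ↥(centralizer ({(t : G)} : Set G)) = ⊥ from hc, bot_inf_eq,
    map_eq_bot_iff_of_injective _ (Subgroup.subtype_injective _), ← Core.map_pPrimeCore (centEquiv N t),
    map_eq_bot_iff_of_injective _ (centEquiv N t).injective] at h
  exact h

theorem ZC.sub (h : ZC G) (N : Subgroup G) [N.Normal] : ZC N := by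
  refine ⟨solvable_cent_sub h.sol N, ?_, ?_⟩
  · have h' := Core.map_pPrimeCore_normal (p := 2) N
    rw [show pPrimeCore 2 G = ⊥ from h.core, bot_inf_eq,
      map_eq_bot_iff_of_injective _ (Subgroup.subtype_injective _)] at h'
    exact h'
  · have h' := Core.map_pCore_normal (p := 2) N
    rw [h.two, bot_inf_eq, map_eq_bot_iff_of_injective _ (Subgroup.subtype_injective _)] at h'
    exact h'

theorem noTwo_residual : NoTwo ↥(Cfsg.pResidual 2 G) := by
  haveI : Fact (Nat.Prime 2) := ⟨Nat.prime_two⟩
  intro N hN hi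
  have hle : Cfsg.pResidual 2 ↥(Cfsg.pResidual 2 G) ≤ N := by
    refine (closure_le N).2 ?_
    intro g hg
    obtain ⟨k, hk⟩ := Nat.coprime_two_right.1 hg
    have h1 : g ^ (2 * k + 1) ∈ N := by rw [← hk, pow_orderOf_eq_one]; exact one_mem _
    rw [pow_succ, pow_mul] at h1
    exact (mul_mem_cancel_left (pow_mem (sq_mem_of_index_two hi g) k)).1 h1
  rw [Fusion.pResidual_pResidual, top_le_iff] at hle
  rw [hle, index_top] at hi
  omega

/-- A group without a subgroup of index two with a centralizer of a central involution normalising the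
Sylow subgroup: strongly embedded or characteristic 2. -/
theorem se_or_char {X : Type u} [Group X] [Finite X] (h : ZC X) (hn : NoTwo X) (R : Sylow 2 X)
    {z : X} (hz : z ∈ (R : Subgroup X)) (hz2 : orderOf z = 2)
    (hzc : ∀ r ∈ (R : Subgroup X), r * z = z * r)
    (hN : centralizer ({z} : Set X) ≤ normalizer ((R : Subgroup X) : Set X)) :
    (∃ M : Subgroup X, Cfsg.IsStronglyEmbedded M) ∨ Cfsg.IsCharacteristicTwoType X := by
  have key : (∃ M : Subgroup X, Cfsg.IsStronglyEmbedded M) ∨
      ∀ t : X, orderOf t = 2 → Cfsg.oddCore ↥(centralizer ({t} : Set X)) = ⊥ := by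
    by_cases hbig : ∃ F, Big F ∧ F ≤ (R : Subgroup X)
    · obtain ⟨F, hF, hFR⟩ := hbig
      exact functor h R hz hz2 hzc hF hFR fun x hx hx2 => connected hn R hz hz2 hzc hN hF hFR hx hx2
    · exact one_class h R hz hz2 hzc hN fun t ht =>
        all_conj h hn R hz hz2 hzc hN (fun F hF hFR => hbig ⟨F, hF, hFR⟩) ht
  refine key.imp id fun hc => S0505.result ?_ h.sol hc
  rw [even_iff_two_dvd]
  exact hz2 ▸ orderOf_dvd_natCard z

end Cfsg.Agent.ZNGroup
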