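import Cfsg.Agent.ZNGroup.Four
import Cfsg.Agent.ZNGroup.Cyclic
import Cfsg.Agent.Invol.UniqueInvolution
import Cfsg.Agent.S0519

/-!
Sylow 2-subgroups without an elementary abelian subgroup of order eight: one class of involutions.
-/

set_option autoImplicit false
set_option linter.unusedSectionVars false

namespace Cfsg.Agent.ZNGroup

open Subgroup Cfsg Dichotomy

variable {X : Type*} [Group X] [Finite X]

/-- A normal four-subgroup of `R` is `{1, z, a, za}`, and `C_R(a)` has index at most two. -/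
theorem four_move {R : Subgroup X} {E : Subgroup X} {z a : X} (h4 : Nat.card E = 4)
    (hsq : ∀ e ∈ E, e * e = 1) (hnorm : ∀ r ∈ R, ∀ e ∈ E, r * e * r⁻¹ ∈ E) (hzE : z ∈ E) (hz1 : z ≠ 1)
    (hzc : ∀ r ∈ R, r * z = z * r) (haE : a ∈ E) (ha1 : a ≠ 1) (haz : a ≠ z) :
    (∀ e ∈ E, e = 1 ∨ e = z ∨ e = a ∨ e = z * a) ∧ z * a = a * z ∧
      (∀ r ∈ R, r * a * r⁻¹ = a ∨ r * a * r⁻¹ = z * a) ∧
      (∀ r ∈ R, r * a = a * r → ∀ e ∈ E, e * r = r * e) := by
  have hcom : z * a = a * z := by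
    have hi : ∀ x ∈ E, x⁻¹ = x := fun x hx => inv_eq_of_mul_eq_one_right (hsq x hx)
    rw [← hi _ (mul_mem hzE haE), mul_inv_rev, hi z hzE, hi a haE]
  have heq : fourOf z a (hsq z hzE) (hsq a haE) hcom = E :=
    Subgroup.eq_of_le_of_card_ge (fourOf_le hzE haE) (by rw [h4, fourOf_card hz1 ha1 (Ne.symm haz)])
  have hcases : ∀ e ∈ E, e = 1 ∨ e = z ∨ e = a ∨ e = z * a := fun e he => by
    rw [← heq] at he
    exact mem_fourOf.1 he
  refine ⟨hcases, hcom, fun r hr => ?_, fun r hr hra e he => ?_⟩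
  · rcases hcases _ (hnorm r hr a haE) with h | h | h | h
    · exact absurd (conj_eq_one_iff.1 h) ha1
    · refine absurd ?_ haz
      calc a = r⁻¹ * (r * a * r⁻¹) * r := by group
        _ = z := by rw [h, mul_assoc, ← hzc r hr, inv_mul_cancel_left]
    · exact Or.inl h
    · exact Or.inr h
  · rcases hcases e he with rfl | rfl | rfl | rfl
    · simp
    · exact (hzc r hr).symm
    · exact hra.symm
    · rw [mul_assoc, ← hra, ← mul_assoc, ← hzc r hr, mul_assoc]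

/-- `C_R(a)` has index two unless it is everything. -/
theorem relIndex_two {R : Subgroup X} {z a s : X}
    (hmove : ∀ r ∈ R, r * a * r⁻¹ = a ∨ r * a * r⁻¹ = z * a)
    (hs : s ∈ R) (hsa : s * a ≠ a * s) :
    (R ⊓ centralizer ({a} : Set X)).relIndex R = 2 := by
  have hout : ∀ r ∈ R, r * a ≠ a * r → r * a * r⁻¹ = z * a := fun r hr h =>
    (hmove r hr).resolve_left fun e => h (mul_inv_eq_iff_eq_mul.1 e)
  refine index_eq_two_iff.2 ⟨⟨s, hs⟩, fun b => ?_⟩
  simp only [mem_subgroupOf, Subgroup.coe_mul, mem_inf, mem_centralizer_singleton_iff]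
  by_cases hb : (b : X) * a = a * b
  · refine Or.inr ⟨⟨b.2, hb⟩, fun h => hsa ?_⟩
    calc s * a = (b : X)⁻¹ * ((b : X) * s * a) := by group
      _ = (b : X)⁻¹ * (a * b) * s := by rw [h.2]; group
      _ = a * s := by rw [← hb]; group
  · refine Or.inl ⟨⟨mul_mem b.2 hs, ?_⟩, fun h => hb h.2⟩
    have hbi : (b : X)⁻¹ * a ≠ a * (b : X)⁻¹ := fun e => hb (by
      calc (b : X) * a = b * (a * (b : X)⁻¹) * b := by group
        _ = a * b := by rw [← e]; group)
    have e1 := hout _ (inv_mem b.2) hbi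
    have e2 := hout s hs hsa
    rw [inv_inv] at e1
    calc (b : X) * s * a = b * (s * a * s⁻¹) * s := by group
      _ = b * ((b : X)⁻¹ * a * b) * s := by rw [e2, e1]
      _ = a * (b * s) := by group

/-- Rank two: one class of involutions. -/
theorem all_conj (h : ZC X) (hn : NoTwo X) (R : Sylow 2 X) {z : X} (hz : z ∈ (R : Subgroup X))
    (hz2 : orderOf z = 2) (hzc : ∀ r ∈ (R : Subgroup X), r * z = z * r)
    (hN : centralizer ({z} : Set X) ≤ normalizer ((R : Subgroup X) : Set X))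
    (hr : ∀ F, Big F → ¬ F ≤ (R : Subgroup X)) {t : X} (ht : orderOf t = 2) :
    ∃ g, g * z * g⁻¹ = t := by
  haveI : Fact (Nat.Prime 2) := ⟨Nat.prime_two⟩
  have hzz := mul_self_of_orderOf_two hz2
  have hz1 : z ≠ 1 := fun e => by rw [e, orderOf_one] at hz2; omega
  by_cases hsm : ∃ x ∈ (R : Subgroup X), orderOf x = 2 ∧ x ≠ z ∧
      Nat.card ↥((R : Subgroup X) ⊓ centralizer ({x} : Set X)) ≤ 4
  · obtain ⟨x, hx, hx2, hxz, hc⟩ := hsm
    exact all_conj_of_cycTwo hn R (cycTwo_of_small _ R.2 hx hz hx2 hz2 hxz (hzc x hx) hc) hz2 ht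
  push Not at hsm
  obtain ⟨g₀, hx, hxz⟩ := h.exists_fused R hz hz2
  obtain ⟨x, hxdef⟩ : ∃ x, x = g₀ * z * g₀⁻¹ := ⟨_, rfl⟩
  rw [← hxdef] at hx hxz
  have hx2 : orderOf x = 2 := by
    rw [hxdef, show g₀ * z * g₀⁻¹ = MulAut.conj g₀ z from rfl, MulEquiv.orderOf_eq, hz2]
  have hxx := mul_self_of_orderOf_two hx2
  have hx1 : x ≠ 1 := fun e => by rw [e, orderOf_one] at hx2; omega
  -- a normal four-subgroup, or a cyclic subgroup of index two
  by_cases hex : ∃ A : Subgroup ↥(R : Subgroup X), A.Normal ∧ IsMulCommutative A ∧ ¬ IsCyclic A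
  swap
  · push Not at hex
    have hm : ∃ B : Subgroup ↥(R : Subgroup X), IsMulCommutative B ∧ ¬ IsCyclic B := by
      set E := fourOf z x hzz hxx (hzc x hx).symm
      have hER : E ≤ (R : Subgroup X) := fourOf_le hz hx
      refine ⟨E.subgroupOf (R : Subgroup X), ⟨⟨fun a b => Subtype.ext (Subtype.ext ?_)⟩⟩, fun hcyc => ?_⟩
      · exact Coprime.ea_comm (ea_of_sq (E := E) fourOf_sq) a.2 b.2
      · obtain ⟨c, hc⟩ := hcyc.exists_generator
        have hu : ∀ u : X, u ∈ E → u ∈ zpowers (((c : ↥(R : Subgroup X)) : X)) := by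
          intro u hu
          obtain ⟨k, hk⟩ := mem_zpowers_iff.1 (hc ⟨⟨u, hER hu⟩, hu⟩)
          refine mem_zpowers_iff.2 ⟨k, ?_⟩
          have := congrArg (fun w : E.subgroupOf (R : Subgroup X) => (((w : ↥(R : Subgroup X))) : X)) hk
          simpa using this
        exact hxz (invol_unique (hu x fourOf_right) (hu z fourOf_left) hx2 hz2)
    obtain ⟨-, hcase⟩ := S0519.result 2 R.2 hex hm
    have hcyc : CycTwo (R : Subgroup X) := by
      rcases hcase with ⟨n, ⟨e⟩⟩ | ⟨n, -, ⟨e⟩⟩ | hq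
      · exact cycTwo_of_quaternion e
      · exact cycTwo_of_dihedral e
      · exact cycTwo_of_quasiDihedral hq
    exact all_conj_of_cycTwo hn R hcyc hz2 ht
  obtain ⟨A, hAn, hAc, hAnc⟩ := hex
  obtain ⟨u, v, hu2, hv2, huv⟩ : ∃ u v : A, orderOf u = 2 ∧ orderOf v = 2 ∧ u ≠ v := by
    by_contra hc
    push Not at hc
    exact hAnc (Invol.isCyclic_of_unique_involution (R.2.to_subgroup A) hc)
  -- the involutions of `A`
  let E : Subgroup X :=
    { carrier := {y | ∃ w : A, w * w = 1 ∧ ((w : ↥(R : Subgroup X)) : X) = y}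
      one_mem' := ⟨1, one_mul 1, rfl⟩
      mul_mem' := by
        rintro _ _ ⟨a, ha, rfl⟩ ⟨b, hb, rfl⟩
        refine ⟨a * b, ?_, rfl⟩
        rw [mul_assoc, ← mul_assoc b, hAc.is_comm.comm b a, mul_assoc a b b, hb, mul_one, ha]
      inv_mem' := by
        rintro _ ⟨a, ha, rfl⟩
        exact ⟨a⁻¹, by rw [← mul_inv_rev, ha, inv_one], rfl⟩ }
  have hER : E ≤ (R : Subgroup X) := by rintro _ ⟨w, -, rfl⟩; exact (w : ↥(R : Subgroup X)).2
  have hsq : ∀ e ∈ E, e * e = 1 := by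
    rintro _ ⟨w, hw, rfl⟩
    exact congrArg (fun y : A => ((y : ↥(R : Subgroup X)) : X)) hw
  have hnorm : ∀ r ∈ (R : Subgroup X), ∀ e ∈ E, r * e * r⁻¹ ∈ E := by
    rintro r hr' _ ⟨w, hw, rfl⟩
    refine ⟨⟨⟨r, hr'⟩ * w * ⟨r, hr'⟩⁻¹, hAn.conj_mem w w.2 _⟩, Subtype.ext (Subtype.ext ?_), rfl⟩
    show r * _ * r⁻¹ * (r * _ * r⁻¹) = (1 : X)
    rw [show ∀ y : X, r * y * r⁻¹ * (r * y * r⁻¹) = r * (y * y) * r⁻¹ from fun y => by group,
      hsq _ ⟨w, hw, rfl⟩, mul_one, mul_inv_cancel]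
  have hE4 : Nat.card E = 4 := by
    obtain ⟨k, hk⟩ := IsPGroup.iff_card.1 (R.2.to_le hER)
    have h3 : 2 < Nat.card E := by
      classical
      haveI := Fintype.ofFinite E
      rw [Nat.card_eq_fintype_card]
      refine Fintype.two_lt_card_iff.2 ⟨1, ⟨_, u, mul_self_of_orderOf_two hu2, rfl⟩,
        ⟨_, v, mul_self_of_orderOf_two hv2, rfl⟩, ?_, ?_, ?_⟩
      · intro e
        have := congrArg (fun y : E => (y : X)) e
        have h1 : u = 1 := Subtype.ext (Subtype.ext this.symm)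
        rw [h1, orderOf_one] at hu2; omega
      · intro e
        have := congrArg (fun y : E => (y : X)) e
        have h1 : v = 1 := Subtype.ext (Subtype.ext this.symm)
        rw [h1, orderOf_one] at hv2; omega
      · intro e
        exact huv (Subtype.ext (Subtype.ext (congrArg (fun y : E => (y : X)) e)))
    have h8 : Nat.card E < 2 ^ 3 := not_le.1 fun h8 => hr E ⟨ea_of_sq hsq, h8⟩ hER
    rw [hk] at h3 h8 ⊢
    have := (Nat.pow_lt_pow_iff_right (a := 2) (by norm_num)).1 h8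
    interval_cases k <;> omega
  have hzE : z ∈ E := mem_of_comm hr hER hsq hE4 hz hzz fun e he => (hzc e (hER he))
  obtain ⟨a, haE, ha1, haz⟩ : ∃ a ∈ E, a ≠ 1 ∧ a ≠ z := by
    by_contra hc
    push Not at hc
    have hsub : (E : Set X) ⊆ {1, z} := fun y hy => by
      by_cases h1 : y = 1
      · exact Or.inl h1
      · exact Or.inr (hc y hy h1)
    have := Set.ncard_le_ncard hsub (Set.toFinite _)
    rw [← Nat.card_coe_set_eq, Set.ncard_pair hz1.symm] at this
    change Nat.card E ≤ 2 at this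
    omega
  obtain ⟨hcases, hcom, hmove, hcent⟩ := four_move hE4 hsq hnorm hzE hz1 hzc haE ha1 haz
  set M := (R : Subgroup X) ⊓ centralizer ({a} : Set X) with hM
  have hMinv : ∀ y ∈ M, y * y = 1 → y ∈ E := fun y hy hy2 =>
    mem_of_comm hr hER hsq hE4 (mem_inf.1 hy).1 hy2
      (hcent y (mem_inf.1 hy).1 (mem_centralizer_singleton_iff.1 (mem_inf.1 hy).2))
  have hconjR : ∀ y : X, orderOf y = 2 → ∃ g, g * y * g⁻¹ ∈ (R : Subgroup X) := fun y hy => by
    have hp : IsPGroup 2 ↥(zpowers y) :=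
      IsPGroup.of_card (n := 1) (by rw [Nat.card_zpowers, hy, pow_one])
    obtain ⟨P, hP⟩ := hp.exists_le_sylow
    obtain ⟨g, hg⟩ := MulAction.exists_smul_eq X P R
    refine ⟨g, ?_⟩
    rw [← hg, Sylow.coe_subgroup_smul]
    exact ⟨y, hP (mem_zpowers y), rfl⟩
  have hintoE : ∀ y ∈ (R : Subgroup X), y * y = 1 → ∃ g, g * y * g⁻¹ ∈ E := by
    intro y hy hy2
    by_cases hall : (R : Subgroup X) ≤ centralizer ({a} : Set X)
    · exact ⟨1, by simpa using hMinv y (mem_inf.2 ⟨hy, hall hy⟩) hy2⟩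
    obtain ⟨s, hs, hsa⟩ := SetLike.not_le_iff_exists.1 hall
    rw [mem_centralizer_singleton_iff] at hsa
    obtain ⟨g, -, hgM⟩ := exists_conj_mem hn R (relIndex_two hmove hs hsa) hy hy2
    exact ⟨g, hMinv _ hgM (by
      rw [show g * y * g⁻¹ * (g * y * g⁻¹) = g * (y * y) * g⁻¹ by group, hy2]; group)⟩
  -- an element of `E` other than `z` fused to `z`
  obtain ⟨b, hbE, hbz, k₀, hb⟩ : ∃ b ∈ E, b ≠ z ∧ ∃ k, k * z * k⁻¹ = b := by
    by_cases hxE : x ∈ E
    · exact ⟨x, hxE, hxz, g₀, hxdef.symm⟩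
    have hxa : ¬ (x * a = a * x) := fun e => hxE (hMinv x (mem_inf.2 ⟨hx, mem_centralizer_singleton_iff.2 e⟩) hxx)
    set T := (R : Subgroup X) ⊓ centralizer ({x} : Set X) with hT
    have hT2 : IsPGroup 2 T := R.2.to_le inf_le_left
    obtain ⟨v, hv, hv2⟩ : ∃ v ∈ T, v * v ≠ 1 := by
      by_contra hc
      push Not at hc
      have h4 := hsm x hx hx2 hxz
      rw [← hT] at h4
      obtain ⟨k, hk⟩ := IsPGroup.iff_card.1 hT2
      refine hr T ⟨ea_of_sq hc, ?_⟩ inf_le_left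
      rw [hk] at h4 ⊢
      refine Nat.pow_le_pow_right two_pos ?_
      by_contra hlt
      have := Nat.pow_le_pow_right two_pos (show k ≤ 2 by omega)
      omega
    obtain ⟨u, hu, huu⟩ := exists_sq_invol hT2 hv hv2
    obtain ⟨huR, hux⟩ := mem_inf.1 hu
    rw [mem_centralizer_singleton_iff] at hux
    obtain ⟨s, hs, hsa⟩ : ∃ s ∈ (R : Subgroup X), s * a ≠ a * s := ⟨x, hx, hxa⟩
    have hidx := relIndex_two hmove hs hsa
    have hsqE : ∀ w ∈ (R : Subgroup X), orderOf (w * w) = 2 → w * w ∈ E := fun w hw ho =>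
      hMinv _ (sq_mem_of_relIndex hidx hw) (mul_self_of_orderOf_two ho)
    have huz : u * u = z := by
      have hxuu : x * (u * u) = u * u * x := by rw [← mul_assoc, ← hux, mul_assoc, ← hux, mul_assoc]
      rcases hcases _ (hsqE u huR huu) with e | e | e | e
      · rw [e, orderOf_one] at huu; omega
      · exact e
      · rw [e] at hxuu; exact absurd hxuu hxa
      · rw [e] at hxuu
        refine absurd ?_ hxa
        rw [← mul_assoc, hzc x hx, mul_assoc, mul_assoc] at hxuu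
        exact mul_left_cancel hxuu
    obtain ⟨k, hk⟩ : ∃ k, k = g₀⁻¹ := ⟨_, rfl⟩
    have hkx : k * x * k⁻¹ = z := by rw [hk, hxdef]; group
    have hu' : k * u * k⁻¹ ∈ (R : Subgroup X) := by
      refine mem_sylow_of_normalizes R (isPGroup_zpowers_conj R.2 huR k) (hN ?_)
      rw [mem_centralizer_singleton_iff, ← hkx,
        show k * u * k⁻¹ * (k * x * k⁻¹) = k * (u * x) * k⁻¹ by group, hux]
      group
    have hsq' : k * u * k⁻¹ * (k * u * k⁻¹) = k * z * k⁻¹ := by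
      rw [show k * u * k⁻¹ * (k * u * k⁻¹) = k * (u * u) * k⁻¹ by group, huz]
    refine ⟨_, hsqE _ hu' ?_, ?_, k, hsq'.symm⟩
    · rw [hsq', show k * z * k⁻¹ = MulAut.conj k z from rfl, MulEquiv.orderOf_eq, hz2]
    · rw [hsq']
      intro e
      refine hxz ?_
      have h1 : k * x * k⁻¹ = k * z * k⁻¹ := hkx.trans e.symm
      exact mul_left_cancel (mul_right_cancel h1)
  -- hence every element of `E` other than one is conjugate to `z`
  have hb1 : b ≠ 1 := fun e => by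
    rw [e] at hb
    exact hz1 (conj_eq_one_iff.1 hb)
  obtain ⟨hcases', hcom', hmove', hcent'⟩ := four_move hE4 hsq hnorm hzE hz1 hzc hbE hb1 hbz
  have hzb : ∃ g, g * z * g⁻¹ = z * b := by
    by_cases hall : (R : Subgroup X) ≤ centralizer ({b} : Set X)
    · have hzb1 : z * b ≠ 1 := fun e => hbz (by
        rw [← inv_eq_of_mul_eq_one_right e, inv_eq_of_mul_eq_one_right hzz])
      obtain ⟨g, hgR, hgne⟩ := h.exists_fused R (mul_mem hz (hER hbE))
        (orderOf_two_of_sq (hsq _ (mul_mem hzE hbE)) hzb1)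
      have hgE : g * (z * b) * g⁻¹ ∈ E := by
        refine mem_of_comm hr hER hsq hE4 hgR ?_
          (hcent' _ hgR (mem_centralizer_singleton_iff.1 (hall hgR)))
        rw [show g * (z * b) * g⁻¹ * (g * (z * b) * g⁻¹) = g * (z * b * (z * b)) * g⁻¹ by group,
          hsq _ (mul_mem hzE hbE)]
        group
      rcases hcases' _ hgE with e | e | e | e
      · exact absurd (conj_eq_one_iff.1 e) hzb1
      · exact ⟨g⁻¹, by nth_rewrite 1 [← e]; group⟩
      · exact ⟨g⁻¹ * k₀, by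
          rw [show g⁻¹ * k₀ * z * (g⁻¹ * k₀)⁻¹ = g⁻¹ * (k₀ * z * k₀⁻¹) * g by group, hb]
          nth_rewrite 1 [← e]
          group⟩
      · exact absurd e hgne
    · obtain ⟨s, hs, hsb⟩ := SetLike.not_le_iff_exists.1 hall
      rw [mem_centralizer_singleton_iff] at hsb
      refine ⟨s * k₀, ?_⟩
      rw [show s * k₀ * z * (s * k₀)⁻¹ = s * (k₀ * z * k₀⁻¹) * s⁻¹ by group, hb]
      exact (hmove' s hs).resolve_left fun e => hsb (mul_inv_eq_iff_eq_mul.1 e)
  obtain ⟨g₁, hg₁⟩ := hconjR t ht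
  obtain ⟨g₂, hg₂⟩ := hintoE _ hg₁ (by
    rw [show g₁ * t * g₁⁻¹ * (g₁ * t * g₁⁻¹) = g₁ * (t * t) * g₁⁻¹ by group,
      mul_self_of_orderOf_two ht]
    group)
  set e := g₂ * (g₁ * t * g₁⁻¹) * g₂⁻¹ with he
  have he1 : e ≠ 1 := fun e' => by
    rw [he, show g₂ * (g₁ * t * g₁⁻¹) * g₂⁻¹ = (g₂ * g₁) * t * (g₂ * g₁)⁻¹ by group,
      conj_eq_one_iff] at e'
    rw [e', orderOf_one] at ht
    omega
  obtain ⟨g₃, hg₃⟩ : ∃ g, g * z * g⁻¹ = e := by
    rcases hcases' _ hg₂ with e' | e' | e' | e'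
    · exact absurd e' he1
    · exact ⟨1, by rw [e']; group⟩
    · exact ⟨k₀, by rw [hb, e']⟩
    · rw [e']; exact hzb
  refine ⟨(g₂ * g₁)⁻¹ * g₃, ?_⟩
  rw [show (g₂ * g₁)⁻¹ * g₃ * z * ((g₂ * g₁)⁻¹ * g₃)⁻¹ = (g₂ * g₁)⁻¹ * (g₃ * z * g₃⁻¹) * (g₂ * g₁) by
    group, hg₃, he]
  group

end Cfsg.Agent.ZNGroup
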